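import Cfsg.Agent.H37.Amalgam.Checks
import Cfsg.Prelude.Def_Solvable
import Cfsg.Prelude.Def_CaseTheorems

/-!
The amalgam of two groups `3²:GL(2,3)` with its seven named generators.
-/

set_option autoImplicit false

namespace Cfsg.Agent.H37.Amalgam

open Subgroup

variable {G : Type*} [Group G]

/-- The amalgam with named generators `z q x t₁ t₂ i k`. -/
structure Amal (A B : Subgroup G) (g : Fin 7 → G) : Prop where
  gen : A ⊔ B = ⊤
  cardA : Nat.card A = 432
  rA : Reps A g okA mA (allW 0 1 wsA)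
  rB : Reps B g okB mB (allW 0 2 wsB)
  cenz : ∀ h, h * g 0 = g 0 * h → h ∈ A
  notk : g 6 ∉ A
  minA : ∀ N : Subgroup G, N.Normal → ∀ a ∈ A, a ≠ 1 → a ∈ N → g 0 ∈ N

/-- The normal subgroup of order nine of one side, as a subgroup of the whole group. -/
theorem core_data [Finite G] (A : Subgroup G)
    (e : A ⧸ Cfsg.pCore 3 A ≃* GL (Fin 2) (ZMod 3))
    (hO : IsMulCommutative (Cfsg.pCore 3 A) ∧ (∀ x ∈ Cfsg.pCore 3 A, x ^ 3 = 1) ∧
      Nat.card (Cfsg.pCore 3 A) = 9 ∧
      centralizer ((Cfsg.pCore 3 A : Subgroup A) : Set A) = Cfsg.pCore 3 A) :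
    ∃ Q : Subgroup G, Q ≤ A ∧ Nat.card A = 432 ∧ Nat.card Q = 9 ∧
      (∀ a ∈ A, ∀ r ∈ Q, a * r * a⁻¹ ∈ Q) ∧ (∀ r ∈ Q, ∀ s ∈ Q, r * s = s * r) ∧
      (∀ r ∈ Q, r * r * r = 1) ∧ (∀ a ∈ A, (∀ r ∈ Q, a * r = r * a) → a ∈ Q) ∧
      ∀ P : Subgroup G, P ≤ A → Nat.card P = 27 → Q ≤ P := by
  have hn : (Cfsg.pCore 3 A).Normal := inferInstance
  obtain ⟨hc, h3, h9, hself⟩ := hO
  have h48 : Nat.card (A ⧸ Cfsg.pCore 3 A) = 48 := by
    rw [Nat.card_congr e.toEquiv, Matrix.card_GL_field]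
    simp [Fin.prod_univ_two]
  have h432 : Nat.card A = 432 := by
    rw [Subgroup.card_eq_card_quotient_mul_card_subgroup (Cfsg.pCore 3 A), h48, h9]
  refine ⟨(Cfsg.pCore 3 A).map A.subtype, map_subtype_le _, h432, ?_, ?_, ?_, ?_, ?_, ?_⟩
  · rw [card_subtype, h9]
  · rintro a ha _ ⟨r, hr, rfl⟩
    exact ⟨⟨a, ha⟩ * r * ⟨a, ha⟩⁻¹, hn.conj_mem r hr _, rfl⟩
  · rintro _ ⟨r, hr, rfl⟩ _ ⟨s, hs, rfl⟩
    exact congrArg (fun u : A => (u : G))
      (congrArg Subtype.val (hc.is_comm.comm ⟨r, hr⟩ ⟨s, hs⟩))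
  · rintro _ ⟨r, hr, rfl⟩
    have := congrArg Subtype.val (h3 r hr)
    rw [pow_succ, pow_two] at this
    exact this
  · intro a ha hcomm
    have hm : (⟨a, ha⟩ : A) ∈ centralizer ((Cfsg.pCore 3 A : Subgroup A) : Set A) :=
      mem_centralizer_iff.2 fun r hr => Subtype.ext (hcomm r ⟨r, hr, rfl⟩).symm
    rw [hself] at hm
    exact ⟨_, hm, rfl⟩
  · intro P hPA hP
    have : Fact (Nat.Prime 3) := ⟨Nat.prime_three⟩
    have hPcard : Nat.card (P.subgroupOf A) = 3 ^ 3 := by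
      rw [Nat.card_congr (subgroupOfEquivOfLe hPA).toEquiv, hP]; norm_num
    let P' : Sylow 3 A := Sylow.ofCard (P.subgroupOf A) (by
      rw [hPcard, h432, show (432 : ℕ) = 3 ^ 3 * 16 by norm_num,
        Nat.factorization_mul (by norm_num) (by norm_num), Finsupp.add_apply,
        Nat.Prime.factorization_pow Nat.prime_three, Finsupp.single_eq_same,
        Nat.factorization_eq_zero_of_not_dvd (by norm_num : ¬ 3 ∣ 16), add_zero])
    have hp : IsPGroup 3 (Cfsg.pCore 3 A) := IsPGroup.of_card (n := 2) (by rw [h9]; norm_num)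
    have hsup : IsPGroup 3 (Cfsg.pCore 3 A ⊔ P.subgroupOf A : Subgroup A) :=
      IsPGroup.to_sup_of_normal_left hp (IsPGroup.of_card hPcard)
    have e' : Cfsg.pCore 3 A ⊔ P.subgroupOf A = P.subgroupOf A :=
      P'.is_maximal' hsup le_sup_right
    rintro _ ⟨r, hr, rfl⟩
    have : r ∈ P.subgroupOf A := e' ▸ Subgroup.mem_sup_left hr
    exact this

theorem mem_normalizer_of_inv {z a : G}
    (h : a * z * a⁻¹ = z ∨ a * z * a⁻¹ = z⁻¹) : a ∈ normalizer (zpowers z : Set G) := by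
  have key : ∀ b : G, (b * z * b⁻¹ = z ∨ b * z * b⁻¹ = z⁻¹) →
      ∀ r ∈ zpowers z, b * r * b⁻¹ ∈ zpowers z := by
    rintro b hb _ ⟨n, rfl⟩
    rw [show b * z ^ n * b⁻¹ = (b * z * b⁻¹) ^ n from (map_zpow (MulAut.conj b) z n)]
    rcases hb with e | e <;> rw [e]
    · exact zpow_mem (mem_zpowers z) n
    · exact zpow_mem (inv_mem (mem_zpowers z)) n
  have h' : a⁻¹ * z * a⁻¹⁻¹ = z ∨ a⁻¹ * z * a⁻¹⁻¹ = z⁻¹ := by
    rcases h with e | e
    · left
      conv_lhs => rw [← e]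
      group
    · right
      have e2 : z = a * z⁻¹ * a⁻¹ := by
        have := congrArg (·⁻¹) e
        simp only [inv_inv] at this
        conv_lhs => rw [← this]
        group
      conv_lhs => rw [e2]
      group
  refine mem_normalizer_iff.2 fun r => ⟨key a h r, fun hr => ?_⟩
  have := key a⁻¹ h' _ hr
  rwa [show a⁻¹ * (a * r * a⁻¹) * a⁻¹⁻¹ = r by group] at this

theorem Reps.congr {A : Subgroup G} {g g' : Fin 7 → G} {ok m ws} (h : Reps A g ok m ws)
    (e : ∀ j, ok j = true → g' j = g j) : Reps A g' ok m ws := by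
  have heq : ∀ w : List (Fin 7), w.all ok = true → (w.map g').prod = (w.map g).prod :=
    fun w hw => congrArg List.prod
      (List.map_congr_left fun j hj => e j (List.all_eq_true.1 hw j hj))
  refine ⟨fun j hj => e j hj ▸ h.mem j hj, fun w w' hw hw' => ?_, fun a ha => ?_⟩
  · rw [heq w hw, heq w' hw']; exact h.eq_iff w w' hw hw'
  · obtain ⟨w, h1, h2, h3⟩ := h.surj a ha
    exact ⟨w, h1, h2, h3.trans (heq w h2).symm⟩

theorem cons7_congr {α : Type*} (a b c d e f k l : α) (j : Fin 7) (hj : okA j = true) :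
    ![a, b, c, d, e, f, k] j = ![a, b, c, d, e, f, l] j := by
  rcases j with ⟨j, h⟩
  match j, h, hj with
  | 0, _, _ => simp
  | 1, _, _ => simp
  | 2, _, _ => simp
  | 3, _, _ => simp
  | 4, _, _ => simp
  | 5, _, _ => simp
  | 6, _, hj => simp [okA] at hj

theorem x_mem {A QA QB : Subgroup G} {g : Fin 7 → G} (r0 : Reps A g okA mA (allW 0 1 wsA))
    (hz : g 0 ∈ QA) (hq : g 1 ∈ QA) (hzB : g 0 ∈ QB) {r : G} (hrA : r ∈ A) (_hrB : r ∈ QB)
    (hrQ : r ∉ QA) (hcom : r * g 0 = g 0 * r) (h3 : r * r * r = 1)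
    (hrt : r * (g 3 * g 4) * r * (g 3 * g 4) ∈ QB) : g 2 ∈ QB := by
  obtain ⟨w, hw, hwok, hrw⟩ := r0.surj r hrA
  have hchk := List.all_eq_true.1 lead_x w hw
  rcases Bool.or_eq_true_iff.1 hchk with hchk | hchk
  rcases Bool.or_eq_true_iff.1 hchk with hchk | hchk
  rcases Bool.or_eq_true_iff.1 hchk with hchk | hchk
  · rw [Bool.not_eq_true', List.all_eq_false] at hchk
    obtain ⟨p, -, hp⟩ := hchk
    refine absurd (decide_eq_true ?_) hp
    have e : ((w ++ [0]).map g).prod = (([0] ++ w).map g).prod := by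
      simp only [List.map_append, List.prod_append, ← hrw, List.map_cons, List.map_nil,
        List.prod_cons, List.prod_nil, mul_one]
      exact hcom
    exact (r0.eq_iff _ _ (by rw [List.all_append, hwok]; rfl)
      (by rw [List.all_append, hwok]; rfl)).1 e p
  · rw [Bool.not_eq_true', List.all_eq_false] at hchk
    obtain ⟨p, -, hp⟩ := hchk
    refine absurd (decide_eq_true ?_) hp
    have e : ((w ++ w ++ w).map g).prod = (([] : List (Fin 7)).map g).prod := by
      simp only [List.map_append, List.prod_append, ← hrw, List.map_nil, List.prod_nil]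
      exact h3
    exact (r0.eq_iff _ [] (by rw [List.all_append, List.all_append, hwok]; rfl) rfl).1 e p
  · obtain ⟨j, -, hj⟩ := List.any_eq_true.1 hchk
    refine absurd ?_ hrQ
    have hok' : (List.replicate (cx j) (0 : Fin 7) ++ List.replicate (cy j) 1).all okA = true := by
      rw [List.all_append, Bool.and_eq_true]
      exact ⟨by simp [okA], by simp [okA]⟩
    rw [hrw, r0.rel hwok hok' fun p => of_decide_eq_true
      (List.all_eq_true.1 hj p (List.mem_finRange p))]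
    simp only [List.map_append, List.prod_append, List.map_replicate, List.prod_replicate]
    exact mul_mem (pow_mem hz _) (pow_mem hq _)
  · obtain ⟨n, -, hn⟩ := List.any_eq_true.1 hchk
    obtain ⟨d, -, hd⟩ := List.any_eq_true.1 hn
    have hok' : ((List.replicate n (w ++ [3, 4] ++ w ++ [3, 4])).flatten ++
        List.replicate d (0 : Fin 7)).all okA = true := by
      rw [List.all_append, Bool.and_eq_true]
      refine ⟨?_, by simp [okA]⟩
      refine List.all_eq_true.2 fun b hb => ?_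
      obtain ⟨l, hl, hbl⟩ := List.mem_flatten.1 hb
      rw [List.eq_of_mem_replicate hl] at hbl
      simp only [List.mem_append, List.mem_cons, List.not_mem_nil, or_false] at hbl
      rcases hbl with ((hb | rfl | rfl) | hb) | rfl | rfl
      all_goals first | exact List.all_eq_true.1 hwok b hb | rfl
    have e := r0.rel hok' (w' := [2]) rfl fun p => of_decide_eq_true
      (List.all_eq_true.1 hd p (List.mem_finRange p))
    simp only [List.map_cons, List.map_nil, List.prod_cons, List.prod_nil, mul_one] at e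
    rw [← e]
    simp only [List.map_append, List.prod_append, List.map_replicate, List.prod_replicate,
      List.map_flatten, List.prod_flatten]
    refine mul_mem (pow_mem ?_ _) (pow_mem hzB _)
    simpa only [List.map_cons, List.map_nil, List.prod_cons, List.prod_nil, mul_one, ← hrw,
      mul_assoc] using hrt

set_option maxHeartbeats 800000 in
theorem exists_amal [Finite G] (A B : Subgroup G) (hgen : A ⊔ B = ⊤)
    (hSylA : ¬ 3 ∣ ((A ⊓ B).subgroupOf A).index)
    (hcore : ∀ N : Subgroup G, N ≤ A ⊓ B → (∀ a ∈ A, N.map (MulAut.conj a).toMonoidHom = N) →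
      (∀ b ∈ B, N.map (MulAut.conj b).toMonoidHom = N) → N = ⊥)
    (eA : A ⧸ Cfsg.pCore 3 A ≃* GL (Fin 2) (ZMod 3))
    (eB : B ⧸ Cfsg.pCore 3 B ≃* GL (Fin 2) (ZMod 3))
    (hOA : IsMulCommutative (Cfsg.pCore 3 A) ∧ (∀ x ∈ Cfsg.pCore 3 A, x ^ 3 = 1) ∧
      Nat.card (Cfsg.pCore 3 A) = 9 ∧
      centralizer ((Cfsg.pCore 3 A : Subgroup A) : Set A) = Cfsg.pCore 3 A)
    (hOB : IsMulCommutative (Cfsg.pCore 3 B) ∧ (∀ x ∈ Cfsg.pCore 3 B, x ^ 3 = 1) ∧
      Nat.card (Cfsg.pCore 3 B) = 9 ∧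
      centralizer ((Cfsg.pCore 3 B : Subgroup B) : Set B) = Cfsg.pCore 3 B)
    (S : Sylow 3 ↥(A ⊓ B)) (Z : Subgroup G)
    (hZ : Z = ((S : Subgroup ↥(A ⊓ B)) ⊓
      centralizer ((S : Subgroup ↥(A ⊓ B)) : Set ↥(A ⊓ B))).map (A ⊓ B).subtype)
    (hNZ : normalizer (Z : Set G) ≤ A ⊓ B) :
    ∃ g : Fin 7 → G, Amal A B g := by
  classical
  obtain ⟨QA, hQA, hA, hA9, hAn, hAab, hA3, hAself, hAP⟩ := core_data A eA hOA
  obtain ⟨QB, hQB, hB, hB9, hBn, hBab, hB3, hBself, hBP⟩ := core_data B eB hOB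
  have : Fact (Nat.Prime 3) := ⟨Nat.prime_three⟩
  -- the Sylow subgroup
  set S' := (S : Subgroup ↥(A ⊓ B)).map (A ⊓ B).subtype with hS'
  have hS'C : S' ≤ A ⊓ B := map_subtype_le _
  have hS27 : Nat.card S' = 27 := by
    rw [hS', card_subtype]
    obtain ⟨k, hk⟩ := IsPGroup.iff_card.1 S.2
    have e1 := (S : Subgroup ↥(A ⊓ B)).index_mul_card
    have e2 := ((A ⊓ B).subgroupOf A).index_mul_card
    rw [Nat.card_congr (subgroupOfEquivOfLe (inf_le_left : A ⊓ B ≤ A)).toEquiv, ← e1, hA] at e2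
    have hco : Nat.Coprime 3 (((A ⊓ B).subgroupOf A).index *
        (S : Subgroup ↥(A ⊓ B)).index) :=
      (Nat.prime_three.coprime_iff_not_dvd.2 hSylA).mul_right
        (Nat.prime_three.coprime_iff_not_dvd.2 S.not_dvd_index)
    rw [← mul_assoc] at e2
    rw [hk] at e2 ⊢
    refine Nat.dvd_antisymm ?_ ?_
    · exact Nat.Coprime.dvd_of_dvd_mul_right (Nat.Coprime.pow_left k (by norm_num : Nat.Coprime 3 16))
        (Dvd.intro_left _ e2 |>.trans (by norm_num))
    · exact Nat.Coprime.dvd_of_dvd_mul_left (Nat.Coprime.pow_left 3 hco : Nat.Coprime (3 ^ 3) _)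
        (by rw [e2]; norm_num)
  have hQAS : QA ≤ S' := hAP S' (hS'C.trans inf_le_left) hS27
  have hQBS : QB ≤ S' := hBP S' (hS'C.trans inf_le_right) hS27
  -- the centre
  have hZmem : ∀ u : G, u ∈ Z ↔ u ∈ S' ∧ ∀ s ∈ S', u * s = s * u := by
    intro u
    rw [hZ]
    constructor
    · rintro ⟨v, ⟨hv, hv'⟩, rfl⟩
      refine ⟨⟨v, hv, rfl⟩, ?_⟩
      rintro _ ⟨s, hs, rfl⟩
      exact congrArg Subtype.val (mem_centralizer_iff.1 hv' s hs).symm
    · rintro ⟨⟨v, hv, rfl⟩, hc⟩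
      exact ⟨v, ⟨hv, mem_centralizer_iff.2 fun s hs =>
        Subtype.ext (hc s ⟨s, hs, rfl⟩).symm⟩, rfl⟩
  obtain ⟨z, hzZ, hz1⟩ : ∃ z ∈ Z, z ≠ 1 := by
    have : Nontrivial (S : Subgroup ↥(A ⊓ B)) := by
      rw [← Finite.one_lt_card_iff_nontrivial]
      have := hS27
      rw [hS', card_subtype] at this
      rw [this]; norm_num
    have := S.2.center_nontrivial
    obtain ⟨⟨c, hc⟩, hc1⟩ := exists_ne (1 : center (S : Subgroup ↥(A ⊓ B)))
    refine ⟨((c : ↥(A ⊓ B)) : G), (hZmem _).2 ⟨⟨c, c.2, rfl⟩, ?_⟩, fun e => hc1 ?_⟩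
    · rintro _ ⟨s, hs, rfl⟩
      exact congrArg (fun u : ↥(A ⊓ B) => (u : G))
        (congrArg Subtype.val (mem_center_iff.1 hc ⟨s, hs⟩)).symm
    · exact Subtype.ext (Subtype.ext (Subtype.ext e))
  have hZQA : Z ≤ QA := fun u hu => hAself u ((hS'C.trans inf_le_left) ((hZmem u).1 hu).1)
    fun r hr => ((hZmem u).1 hu).2 r (hQAS hr)
  have hZQB : Z ≤ QB := fun u hu => hBself u ((hS'C.trans inf_le_right) ((hZmem u).1 hu).1)
    fun r hr => ((hZmem u).1 hu).2 r (hQBS hr)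
  have hZz : Z = zpowers z := by
    have hdvd : Nat.card Z ∣ 9 := hA9 ▸ card_dvd_of_le hZQA
    have hzle : zpowers z ≤ Z := zpowers_le.2 hzZ
    have hz3 : Nat.card (zpowers z) = 3 := by
      rw [Nat.card_zpowers, orderOf_eq_prime (by rw [pow_succ, pow_two]; exact hA3 z (hZQA hzZ)) hz1]
    have h3 : 3 ∣ Nat.card Z := hz3 ▸ card_dvd_of_le hzle
    have hne : Nat.card Z ≠ 9 := fun e => by
      have eq : Z = QA := Subgroup.eq_of_le_of_card_ge hZQA (by rw [hA9, e])
      have hle : S' ≤ QA := fun s hs => hAself s ((hS'C.trans inf_le_left) hs)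
        fun r hr => (((hZmem r).1 (eq ▸ hr)).2 s hs).symm
      have := Nat.le_of_dvd (by norm_num) (hA9 ▸ card_dvd_of_le hle)
      omega
    have h9 : Nat.card Z = 3 := by
      obtain ⟨k, hk, e⟩ := (Nat.dvd_prime_pow Nat.prime_three).1
        (show Nat.card Z ∣ 3 ^ 2 by norm_num; exact hdvd)
      obtain rfl | rfl | rfl : k = 0 ∨ k = 1 ∨ k = 2 := by omega
      · rw [e] at h3; norm_num at h3
      · rw [e]; norm_num
      · rw [e] at hne; norm_num at hne
    exact (Subgroup.eq_of_le_of_card_ge hzle (by rw [hz3, h9])).symm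
  have hzA : z ∈ QA := hZQA hzZ
  have hzB : z ∈ QB := hZQB hzZ
  have hnorm : ∀ a : G, a * z * a⁻¹ = z ∨ a * z * a⁻¹ = z⁻¹ → a ∈ A ⊓ B := fun a h =>
    hNZ (hZz ▸ mem_normalizer_of_inv h)
  -- first side
  obtain ⟨q, hqA, hq1⟩ : ∃ q ∈ QA, q ∉ zpowers z := by
    by_contra! hall
    have := Nat.le_of_dvd (Nat.card_pos) (card_dvd_of_le (show QA ≤ zpowers z from hall))
    rw [hA9, Nat.card_zpowers, orderOf_eq_prime (by rw [pow_succ, pow_two]; exact hA3 z hzA) hz1]
      at this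
    omega
  obtain ⟨hspanA, hindA, hcentA, himA⟩ :=
    exists_image hQA hA hA9 hAn hAab hA3 hAself hzA hz1 hqA hq1
  obtain ⟨t, htA, htz, htq⟩ := himA (mkPt 2 0) (mkPt 0 2) (by decide +kernel)
  have htinv : ∀ r ∈ QA, t * r * t⁻¹ = r⁻¹ := by
    intro r hr
    obtain ⟨j, rfl⟩ := hspanA r hr
    have ez : t * z * t⁻¹ = z⁻¹ := by
      rw [htz, show cx (mkPt 2 0) = 2 from rfl, show cy (mkPt 2 0) = 0 from rfl, pow_zero, mul_one,
        pow_two]
      exact eq_inv_of_mul_eq_one_left (hA3 z hzA)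
    have eq' : t * q * t⁻¹ = q⁻¹ := by
      rw [htq, show cx (mkPt 0 2) = 0 from rfl, show cy (mkPt 0 2) = 2 from rfl, pow_zero, one_mul,
        pow_two]
      exact eq_inv_of_mul_eq_one_left (hA3 q hqA)
    rw [← MulAut.conj_apply, map_mul, map_pow, map_pow, MulAut.conj_apply, MulAut.conj_apply, ez,
      eq', inv_pow, inv_pow, mul_inv_rev]
    exact (Commute.pow_pow (show Commute z q from hAab z hzA q hqA) _ _).inv_inv.eq
  have ht2 : t * t = 1 := by
    have hm : t * t ∈ QA := by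
      refine hcentA _ (mul_mem htA htA) ?_ ?_
      · have e := htinv z hzA
        have e2 := htinv z⁻¹ (inv_mem hzA)
        rw [← mul_inv_eq_iff_eq_mul, show t * t * z * (t * t)⁻¹ = t * (t * z * t⁻¹) * t⁻¹ by group,
          e, e2, inv_inv]
      · have e := htinv q hqA
        have e2 := htinv q⁻¹ (inv_mem hqA)
        rw [← mul_inv_eq_iff_eq_mul, show t * t * q * (t * t)⁻¹ = t * (t * q * t⁻¹) * t⁻¹ by group,
          e, e2, inv_inv]
    have e := htinv _ hm
    rw [show t * (t * t) * t⁻¹ = t * t by group] at e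
    have e3 := hA3 _ hm
    rw [mul_eq_one_iff_eq_inv.2 e, one_mul] at e3
    exact e3
  have sA : Side A QA t z q :=
    Side.of_card hQA hA hA9 hAn hAab hA3 hAself hzA hz1 hqA hq1 htA htinv ht2
  obtain ⟨x, hxA, hxt, hxz, hxq⟩ := sA.full (mkPt 1 0) (mkPt 1 1) (by decide +kernel)
  obtain ⟨t1, h1A, h1t, h1z, h1q⟩ := sA.full (mkPt 2 0) (mkPt 0 1) (by decide +kernel)
  obtain ⟨t2, h2A, h2t, h2z, h2q⟩ := sA.full (mkPt 1 0) (mkPt 0 2) (by decide +kernel)
  obtain ⟨i, hiA, hit, hiz, hiq⟩ := sA.full (mkPt 0 1) (mkPt 2 0) (by decide +kernel)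
  let g0 : Fin 7 → G := ![z, q, x, t1, t2, i, 1]
  have hmemA : ∀ j, okA j = true → g0 j ∈ A := by
    intro j hj
    fin_cases j
    exacts [hQA hzA, hQA hqA, hxA, h1A, h2A, hiA, absurd hj (by decide)]
  have r0 : Reps A g0 okA mA (allW 0 1 wsA) := by
    refine sA.reps (iz := 0) (iq := 1) rfl rfl rfl rfl hmemA ?_ (by decide +kernel) lin_A
    intro j hj p
    fin_cases j
    exacts [sA.perm_z _ p, sA.perm_q _ p, sA.perm_lin hxA hxt hxz hxq p,
      sA.perm_lin h1A h1t h1z h1q p, sA.perm_lin h2A h2t h2z h2q p,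
      sA.perm_lin hiA hit hiz hiq p, absurd hj (by decide)]
  have ht12 : t1 * t2 = t := by
    obtain ⟨h', e⟩ := sA.perm_word hmemA (m := mA) (fun j hj p => by
      fin_cases j
      exacts [sA.perm_z _ p, sA.perm_q _ p, sA.perm_lin hxA hxt hxz hxq p,
        sA.perm_lin h1A h1t h1z h1q p, sA.perm_lin h2A h2t h2z h2q p,
        sA.perm_lin hiA hit hiz hiq p, absurd hj (by decide)]) [3, 4] rfl
    have htz' : t * z * t⁻¹ = Side.pt z q (mkPt 2 0) := htz
    have htq' : t * q * t⁻¹ = Side.pt z q (mkPt 0 2) := htq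
    refine sA.ext (mul_mem h1A h2A) htA fun p => ?_
    rw [sA.perm_lin htA rfl htz' htq']
    have e' := e p
    simp only [List.map_cons, List.map_nil, List.prod_cons, List.prod_nil, mul_one] at e'
    refine e'.trans ?_
    clear e'; revert p; decide +kernel
  -- elements of the intersection
  have h1C : t1 ∈ A ⊓ B := hnorm _ (Or.inr (by
    refine h1z.trans ?_
    show z ^ 2 * q ^ 0 = z⁻¹
    rw [pow_zero, mul_one, pow_two]; exact eq_inv_of_mul_eq_one_left (hA3 z hzA)))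
  have h2C : t2 ∈ A ⊓ B := hnorm _ (Or.inl (by
    refine h2z.trans ?_
    show z ^ 1 * q ^ 0 = z
    simp))
  have hxC : x ∈ A ⊓ B := hnorm _ (Or.inl (by
    refine hxz.trans ?_
    show z ^ 1 * q ^ 0 = z
    simp))
  have hqC : q ∈ A ⊓ B := hS'C (hQAS hqA)
  have htB : t ∈ B := ht12 ▸ mul_mem h1C.2 h2C.2
  -- the second normal subgroup
  have hne : ¬ QB ≤ QA := by
    intro hle
    have eq : QB = QA := Subgroup.eq_of_le_of_card_ge hle (by rw [hA9, hB9])
    have hconj : ∀ (H : Subgroup G), (∀ a ∈ H, ∀ r ∈ QA, a * r * a⁻¹ ∈ QA) →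
        ∀ a ∈ H, QA.map (MulAut.conj a).toMonoidHom = QA := by
      intro H hH a ha
      refine Subgroup.eq_of_le_of_card_ge ?_ ?_
      · rintro _ ⟨r, hr, rfl⟩
        exact hH a ha r hr
      · rw [Nat.card_congr (QA.equivMapOfInjective (MulAut.conj a).toMonoidHom (MulAut.conj a).injective).toEquiv]
    have := hcore QA (hQAS.trans hS'C) (hconj A hAn) (hconj B (eq ▸ hBn))
    rw [this, Subgroup.card_bot] at hA9
    omega
  obtain ⟨r, hrB, hrA⟩ := SetLike.not_le_iff_exists.1 hne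
  have hxB : x ∈ QB := by
    have hrS := hQBS hrB
    refine x_mem (g := g0) r0 hzA hqA hzB ((hS'C.trans inf_le_left) hrS) hrB hrA
      (((hZmem z).1 hzZ).2 r hrS).symm (hB3 r hrB) ?_
    show r * (t1 * t2) * r * (t1 * t2) ∈ QB
    rw [ht12, show r * t * r * t = r * (t * r * t) by group]
    refine mul_mem hrB ?_
    have := hBn t htB r hrB
    rwa [inv_eq_of_mul_eq_one_left ht2] at this
  have hx1 : x ∉ zpowers z := by
    intro hx
    refine mem_zpowers_iff.1 hx |>.elim fun n hn => ?_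
    have hzA' : x ∈ QA := hn ▸ zpow_mem hzA n
    have e := htinv x hzA'
    rw [← hxt, mul_inv_cancel_right] at e
    have e3 := hA3 x hzA'
    rw [mul_eq_one_iff_eq_inv.2 e, one_mul] at e3
    have := r0.ne (w := [2]) (w' := []) rfl rfl (by decide +kernel)
    simp only [List.map_cons, List.map_nil, List.prod_cons, List.prod_nil, mul_one] at this
    exact this e3
  -- the second side
  have rel1 : ∀ w w' : List (Fin 7), w.all okA = true → w'.all okA = true →
      (∀ p, ev mA w p = ev mA w' p) → (w.map g0).prod = (w'.map g0).prod :=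
    fun w w' a b c => r0.rel a b c
  obtain ⟨hspanB, -, -, -⟩ := exists_image hQB hB hB9 hBn hBab hB3 hBself hzB hz1 hxB hx1
  have e13 : t1 * t1 = 1 := by
    have := r0.one (w := [3, 3]) rfl (by decide +kernel)
    simpa [g0] using this
  have h1inv : ∀ r ∈ QB, t1 * r * t1⁻¹ = r⁻¹ := by
    intro r hr
    obtain ⟨j, rfl⟩ := hspanB r hr
    have ez : t1 * z * t1⁻¹ = z⁻¹ := by
      rw [mul_inv_eq_iff_eq_mul, eq_inv_mul_iff_mul_eq]
      have := rel1 [0, 3, 0] [3] rfl rfl (by decide +kernel)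
      simpa [g0, mul_assoc] using this
    have ex : t1 * x * t1⁻¹ = x⁻¹ := by
      rw [mul_inv_eq_iff_eq_mul, eq_inv_mul_iff_mul_eq]
      have := rel1 [2, 3, 2] [3] rfl rfl (by decide +kernel)
      simpa [g0, mul_assoc] using this
    rw [← MulAut.conj_apply, map_mul, map_pow, map_pow, MulAut.conj_apply, MulAut.conj_apply, ez,
      ex, inv_pow, inv_pow, mul_inv_rev]
    exact (Commute.pow_pow (show Commute z x from hBab z hzB x hxB) _ _).inv_inv.eq
  have sB : Side B QB t1 z x :=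
    Side.of_card hQB hB hB9 hBn hBab hB3 hBself hzB hz1 hxB hx1 h1C.2 h1inv e13
  obtain ⟨k, hkB, hkt, hkz, hkx⟩ := sB.full (mkPt 0 1) (mkPt 2 0) (by decide +kernel)
  let g : Fin 7 → G := ![z, q, x, t1, t2, i, k]
  have rA : Reps A g okA mA (allW 0 1 wsA) := r0.congr (cons7_congr z q x t1 t2 i k 1)
  have relA : ∀ w w' : List (Fin 7), w.all okA = true → w'.all okA = true →
      (∀ p, ev mA w p = ev mA w' p) → (w.map g).prod = (w'.map g).prod :=
    fun w w' a b c => rA.rel a b c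
  have hqB : q ∈ B := hqC.2
  have rB : Reps B g okB mB (allW 0 2 wsB) := by
    have hmemB : ∀ j, okB j = true → g j ∈ B := by
      intro j hj
      fin_cases j
      exacts [hQB hzB, hqB, hQB hxB, h1C.2, h2C.2, absurd hj (by decide), hkB]
    refine sB.reps (iz := 0) (iq := 2) rfl rfl rfl rfl hmemB ?_ (by decide +kernel) lin_B
    have eq : ∀ (a : G) (u : Fin 9), Side.pt z x u = a → a = z ^ cx u * x ^ cy u :=
      fun a u e => e.symm
    intro j hj p
    fin_cases j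
    · exact sB.perm_z _ p
    · refine sB.perm_lin hqB ?_ ?_ ?_ p
      · simpa [g] using relA [1, 3] [3, 1] rfl rfl (by decide +kernel)
      · show q * z * q⁻¹ = z ^ 1 * x ^ 0
        rw [mul_inv_eq_iff_eq_mul, pow_one, pow_zero, mul_one]
        exact (hAab z hzA q hqA).symm
      · show q * x * q⁻¹ = z ^ 2 * x ^ 1
        rw [mul_inv_eq_iff_eq_mul, pow_one, pow_two]
        simpa [g, mul_assoc] using relA [1, 2] [0, 0, 2, 1] rfl rfl (by decide +kernel)
    · exact sB.perm_q _ p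
    · refine sB.perm_lin h1C.2 rfl ?_ ?_ p
      · show t1 * z * t1⁻¹ = z ^ 2 * x ^ 0
        rw [h1inv z hzB, pow_zero, mul_one, pow_two]
        exact inv_eq_of_mul_eq_one_left (hA3 z hzA)
      · show t1 * x * t1⁻¹ = z ^ 0 * x ^ 2
        rw [h1inv x hxB, pow_zero, one_mul, pow_two]
        exact inv_eq_of_mul_eq_one_left (hB3 x hxB)
    · refine sB.perm_lin h2C.2 ?_ ?_ ?_ p
      · simpa [g] using relA [4, 3] [3, 4] rfl rfl (by decide +kernel)
      · show t2 * z * t2⁻¹ = z ^ 1 * x ^ 0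
        rw [mul_inv_eq_iff_eq_mul, pow_one, pow_zero, mul_one]
        simpa [g] using relA [4, 0] [0, 4] rfl rfl (by decide +kernel)
      · show t2 * x * t2⁻¹ = z ^ 0 * x ^ 2
        rw [mul_inv_eq_iff_eq_mul, pow_zero, one_mul, pow_two]
        simpa [g, mul_assoc] using relA [4, 2] [2, 2, 4] rfl rfl (by decide +kernel)
    · exact absurd hj (by decide)
    · exact sB.perm_lin hkB hkt hkz hkx p
  refine ⟨g, hgen, hA, rA, rB, fun h hh => ?_, fun hk => ?_, fun N hN a ha ha1 haN => ?_⟩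
  · exact (hnorm h (Or.inl (mul_inv_eq_iff_eq_mul.2 hh))).1
  · have hxQA : x ∈ QA := by
      have e : k * z * k⁻¹ = z ^ 0 * x ^ 1 := hkz
      rw [pow_zero, one_mul, pow_one] at e
      exact e ▸ hAn k hk z hzA
    have e := htinv x hxQA
    rw [← hxt, mul_inv_cancel_right] at e
    have e3 := hA3 x hxQA
    rw [mul_eq_one_iff_eq_inv.2 e, one_mul] at e3
    exact hx1 (e3 ▸ one_mem _)
  · obtain ⟨r, hrQ, hr1, hrN⟩ : ∃ r ∈ QA, r ≠ 1 ∧ r ∈ N := by
      by_cases haQ : a ∈ QA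
      · exact ⟨a, haQ, ha1, haN⟩
      have hcomm : ∀ b ∈ QA, a * b * a⁻¹ * b⁻¹ ∈ QA ∧ a * b * a⁻¹ * b⁻¹ ∈ N := fun b hb =>
        ⟨mul_mem (hAn a ha b hb) (inv_mem hb), by
          rw [show a * b * a⁻¹ * b⁻¹ = a * (b * a⁻¹ * b⁻¹) by group]
          exact mul_mem haN (hN.conj_mem _ (inv_mem haN) b)⟩
      by_cases hz' : a * z * a⁻¹ * z⁻¹ = 1
      · refine ⟨_, (hcomm q hqA).1, fun e => haQ (hcentA a ha ?_ ?_), (hcomm q hqA).2⟩
        · exact mul_inv_eq_iff_eq_mul.1 (mul_inv_eq_one.1 hz')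
        · exact mul_inv_eq_iff_eq_mul.1 (mul_inv_eq_one.1 e)
      · exact ⟨_, (hcomm z hzA).1, hz', (hcomm z hzA).2⟩
    obtain ⟨u, hu⟩ := hspanA r hrQ
    obtain ⟨v, hv⟩ := exists_indep u fun e => hr1 (by rw [hu, e]; simp [cx, cy])
    obtain ⟨b, hb, hbz, -⟩ := himA u v hv
    show z ∈ N
    have := hN.conj_mem _ hrN b⁻¹
    rw [hu, ← hbz] at this
    simpa [mul_assoc] using this

end Cfsg.Agent.H37.Amalgam
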