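import Cfsg.Agent.H37.Amalgam.Amal

/-!
The centralizer of the central involution of one side, modulo that involution.
-/

set_option autoImplicit false

namespace Cfsg.Agent.H37.Amalgam

open Subgroup

variable {G : Type*} [Group G] {A B : Subgroup G} {g : Fin 7 → G}

/-- the central involution -/
def tee (g : Fin 7 → G) : G := g 3 * g 4

/-- its centralizer -/
def cen (g : Fin 7 → G) : Subgroup G := centralizer {tee g}

theorem mem_cen {a : G} : a ∈ cen g ↔ a * tee g = tee g * a := by
  rw [cen, mem_centralizer_iff]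
  exact ⟨fun h => (h _ rfl).symm, fun h b hb => by rw [Set.mem_singleton_iff.1 hb]; exact h.symm⟩

/-- the involution in its centralizer -/
def teeH (g : Fin 7 → G) : cen g := ⟨tee g, mem_cen.2 rfl⟩

instance teeH_normal : (zpowers (teeH g)).Normal := by
  refine ⟨fun n hn a => ?_⟩
  obtain ⟨k, rfl⟩ := hn
  have : Commute a (teeH g) := Subtype.ext (mem_cen.1 a.2)
  rw [(this.zpow_right k).eq, mul_inv_cancel_right]
  exact zpow_mem (mem_zpowers _) k

theorem checkZ : ((allW 0 1 wsA).all fun w =>
    !((List.finRange 9).all fun p => decide (ev mA (w ++ [0]) p = ev mA ([0] ++ w) p)) ||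
    !((List.finRange 9).all fun p => decide (ev mA (w ++ [4]) p = ev mA ([4] ++ w) p)) ||
    (List.range 3).any (fun n => (List.range 2).any fun d => (List.finRange 9).all fun p => decide
      (ev mA w p = ev mA (List.replicate n 0 ++ List.replicate d 4) p))) = true := by
  decide +kernel

namespace Amal

theorem sideA (h : Amal A B g) {w w' : List (Fin 7)} (hw : w.all okA = true)
    (hw' : w'.all okA = true) (he : ∀ p, ev mA w p = ev mA w' p) :
    (w.map g).prod = (w'.map g).prod := h.rA.rel hw hw' he

theorem sideB (h : Amal A B g) {w w' : List (Fin 7)} (hw : w.all okB = true)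
    (hw' : w'.all okB = true) (he : ∀ p, ev mB w p = ev mB w' p) :
    (w.map g).prod = (w'.map g).prod := h.rB.rel hw hw' he

theorem t_sq (h : Amal A B g) : tee g * tee g = 1 := by
  simpa [tee, mul_assoc] using h.sideA (w := [3, 4, 3, 4]) (w' := []) rfl rfl (by decide +kernel)

theorem t_ne (h : Amal A B g) : tee g ≠ 1 := by
  simpa [tee] using h.rA.ne (w := [3, 4]) (w' := []) rfl rfl (by decide +kernel)

theorem k_inv (h : Amal A B g) : g 6 * g 6 * g 6 * g 6 = 1 := by
  simpa [mul_assoc] using h.sideB (w := [6, 6, 6, 6]) (w' := []) rfl rfl (by decide +kernel)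

/-- letters commuting with the involution -/
theorem mem_cen_of_table (h : Amal A B g) {w : List (Fin 7)} (hw : w.all okA = true)
    (he : ∀ p, ev mA (w ++ [3, 4]) p = ev mA ([3, 4] ++ w) p) : (w.map g).prod ∈ cen g := by
  refine mem_cen.2 ?_
  have := h.sideA (w := w ++ [3, 4]) (w' := [3, 4] ++ w) (by rw [List.all_append, hw]; rfl)
    (by rw [List.all_append, hw]; rfl) he
  simpa [tee, List.prod_append, mul_assoc] using this

theorem x_mem_cen (h : Amal A B g) : g 2 ∈ cen g := by
  simpa using h.mem_cen_of_table (w := [2]) rfl (by decide +kernel)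

theorem t1_mem_cen (h : Amal A B g) : g 3 ∈ cen g := by
  simpa using h.mem_cen_of_table (w := [3]) rfl (by decide +kernel)

theorem i_mem_cen (h : Amal A B g) : g 5 ∈ cen g := by
  simpa using h.mem_cen_of_table (w := [5]) rfl (by decide +kernel)

/-- The centralizer of `x` inside the centralizer of the involution. -/
theorem cent_x (h : Amal A B g) {u : G} (hx : u * g 2 = g 2 * u) (ht : u * tee g = tee g * u) :
    ∃ n d : ℕ, u = g 2 ^ n * tee g ^ d := by
  set k := g 6 with hk
  have kz : k * g 0 = g 2 * k := by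
    simpa [hk] using h.sideB (w := [6, 0]) (w' := [2, 6]) rfl rfl (by decide +kernel)
  have kt : k * g 4 = tee g * k := by
    simpa [hk, tee, mul_assoc] using
      h.sideB (w := [6, 4]) (w' := [3, 4, 6]) rfl rfl (by decide +kernel)
  have ez : g 0 = k⁻¹ * g 2 * k := by rw [mul_assoc, ← kz, inv_mul_cancel_left]
  have et : g 4 = k⁻¹ * tee g * k := by rw [mul_assoc, ← kt, inv_mul_cancel_left]
  set v := k⁻¹ * u * k with hv
  have vz : v * g 0 = g 0 * v := by
    rw [hv, ez]
    calc _ = k⁻¹ * (u * g 2) * k := by group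
      _ = _ := by rw [hx]; group
  have vt : v * g 4 = g 4 * v := by
    rw [hv, et]
    calc _ = k⁻¹ * (u * tee g) * k := by group
      _ = _ := by rw [ht]; group
  obtain ⟨w, hw, hwok, hvw⟩ := h.rA.surj v (h.cenz v vz)
  have hchk := List.all_eq_true.1 checkZ w hw
  rcases Bool.or_eq_true_iff.1 hchk with hchk | hchk
  rcases Bool.or_eq_true_iff.1 hchk with hchk | hchk
  · rw [Bool.not_eq_true', List.all_eq_false] at hchk
    obtain ⟨p, -, hp⟩ := hchk
    refine absurd (decide_eq_true ((h.rA.eq_iff _ _ ?_ ?_).1 ?_ p)) hp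
    · rw [List.all_append, hwok]; rfl
    · rw [List.all_append, hwok]; rfl
    · simp only [List.map_append, List.prod_append, ← hvw, List.map_cons, List.map_nil,
        List.prod_cons, List.prod_nil, mul_one]
      exact vz
  · rw [Bool.not_eq_true', List.all_eq_false] at hchk
    obtain ⟨p, -, hp⟩ := hchk
    refine absurd (decide_eq_true ((h.rA.eq_iff _ _ ?_ ?_).1 ?_ p)) hp
    · rw [List.all_append, hwok]; rfl
    · rw [List.all_append, hwok]; rfl
    · simp only [List.map_append, List.prod_append, ← hvw, List.map_cons, List.map_nil,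
        List.prod_cons, List.prod_nil, mul_one]
      exact vt
  · obtain ⟨n, -, hn⟩ := List.any_eq_true.1 hchk
    obtain ⟨d, -, hd⟩ := List.any_eq_true.1 hn
    have hok : (List.replicate n (0 : Fin 7) ++ List.replicate d 4).all okA = true := by
      rw [List.all_append, Bool.and_eq_true]
      exact ⟨by simp [okA], by simp [okA]⟩
    have e := h.rA.rel hwok hok fun p => of_decide_eq_true
      (List.all_eq_true.1 hd p (List.mem_finRange p))
    rw [← hvw, List.map_append, List.prod_append, List.map_replicate, List.map_replicate,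
      List.prod_replicate, List.prod_replicate] at e
    refine ⟨n, d, ?_⟩
    have e2 : g 2 = MulAut.conj k (g 0) := by
      rw [MulAut.conj_apply, kz, mul_inv_cancel_right]
    have e3 : tee g = MulAut.conj k (g 4) := by
      rw [MulAut.conj_apply, kt, mul_inv_cancel_right]
    rw [e2, e3, ← map_pow, ← map_pow, ← map_mul, ← e, hv, MulAut.conj_apply]
    group

theorem teeH_sq (h : Amal A B g) : teeH g * teeH g = 1 := Subtype.ext h.t_sq

theorem teeH_comm (a : cen g) : a * teeH g = teeH g * a := Subtype.ext (mem_cen.1 a.2)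

theorem teeH_mem (h : Amal A B g) {a : cen g} (ha : a ∈ zpowers (teeH g)) :
    a = 1 ∨ a = teeH g := by
  obtain ⟨n, rfl⟩ := ha
  have e2 : (teeH g) ^ (2 : ℤ) = 1 := by rw [zpow_two]; exact h.teeH_sq
  show (teeH g) ^ n = 1 ∨ (teeH g) ^ n = teeH g
  rw [← Int.mul_ediv_add_emod n 2, zpow_add, zpow_mul, e2, one_zpow, one_mul]
  rcases Int.emod_two_eq n with e | e <;> simp [e]

/-- equality modulo the involution -/
theorem mk_eq_iff (h : Amal A B g) {a b : cen g} :
    (a : cen g ⧸ zpowers (teeH g)) = b ↔ a = b ∨ a = b * teeH g := by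
  constructor
  · intro e
    rcases h.teeH_mem (QuotientGroup.eq.1 e.symm) with e' | e'
    · exact Or.inl (inv_mul_eq_one.1 e').symm
    · exact Or.inr (inv_mul_eq_iff_eq_mul.1 e')
  · rintro (rfl | rfl)
    · rfl
    · exact QuotientGroup.mk_mul_of_mem b (mem_zpowers _)

end Amal

end Cfsg.Agent.H37.Amalgam
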