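import Cfsg.Agent.H37.Amalgam.Reps

/-!
Finite checks on the nine points.
-/

set_option autoImplicit false
set_option Elab.async false

namespace Cfsg.Agent.H37.Amalgam

theorem exists_indep : ∀ u : Fin 9, u ≠ 0 → ∃ v, indep u v = true := by decide +kernel

/-- the words commuting with `z`, of order three, lead to `x` -/
theorem lead_x : ((allW 0 1 wsA).all fun w =>
    !((List.finRange 9).all fun p => decide (ev mA (w ++ [0]) p = ev mA ([0] ++ w) p)) ||
    !((List.finRange 9).all fun p => decide (ev mA (w ++ w ++ w) p = p)) ||
    (List.finRange 9).any (fun j => (List.finRange 9).all fun p => decide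
      (ev mA w p = ev mA (List.replicate (cx j) 0 ++ List.replicate (cy j) 1) p)) ||
    (List.range 3).any (fun n => (List.range 3).any fun d => (List.finRange 9).all fun p => decide
      (ev mA ((List.replicate n (w ++ [3, 4] ++ w ++ [3, 4])).flatten ++ List.replicate d 0) p =
        ev mA [2] p))) = true := by decide +kernel

theorem lin_A : ∀ u v : Fin 9, indep u v = true →
    (wsA.any fun w => (List.finRange 9).all fun p => decide (ev mA w p = lin u v p)) = true := by
  decide +kernel

theorem lin_B : ∀ u v : Fin 9, indep u v = true →
    (wsB.any fun w => (List.finRange 9).all fun p => decide (ev mB w p = lin u v p)) = true := by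
  decide +kernel

end Cfsg.Agent.H37.Amalgam
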