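import Cfsg.Agent.H66.SelfThree.Lift

/-!
Finite facts on the alternating group of degree five acting on an abelian group of exponent two
with trivial norms.
-/

set_option autoImplicit false

namespace Cfsg.Agent.H37.Amalgam

open Cfsg.Agent.H66.SelfThree (ev)

/-- `(123)` -/
def xi5 : alternatingGroup (Fin 5) := ev ([0, 1, 2].formPerm)

/-- `(12)(45)` -/
def sg5 : alternatingGroup (Fin 5) := ev ([0, 1].formPerm * [3, 4].formPerm)

/-- `(234)` -/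
def kk5 : alternatingGroup (Fin 5) := ev ([1, 2, 3].formPerm)

theorem five_conj_xi : ∀ a : alternatingGroup (Fin 5), a * a * a = 1 → a ≠ 1 →
    ∃ p, p * a * p⁻¹ = xi5 := by decide +kernel

theorem five_conj_sg : ∀ s : alternatingGroup (Fin 5), s * s = 1 → s * xi5 * s⁻¹ = xi5⁻¹ →
    s = sg5 ∨ xi5 * s * xi5⁻¹ = sg5 ∨ xi5⁻¹ * s * xi5 = sg5 := by decide +kernel

theorem five_no_klein : ∀ u : alternatingGroup (Fin 5), u * u = 1 → u * sg5 = sg5 * u →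
    u * (xi5 * u * xi5⁻¹) = (xi5 * u * xi5⁻¹) * u → u = 1 := by decide +kernel

theorem five_frame {Q : Type*} [Group Q] (e : Q ≃* alternatingGroup (Fin 5)) {a s : Q}
    (ha3 : a * a * a = 1) (ha : a ≠ 1) (hs : s * s = 1) (hsa : s * a * s⁻¹ = a⁻¹) :
    ∃ e' : Q ≃* alternatingGroup (Fin 5), e' a = xi5 ∧ e' s = sg5 := by
  obtain ⟨p, hp⟩ := five_conj_xi (e a) (by rw [← map_mul, ← map_mul, ha3, map_one])
    (fun e1 => ha (e.map_eq_one_iff.1 e1))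
  let e1 := e.trans (MulAut.conj p)
  have hx : e1 a = xi5 := hp
  rcases five_conj_sg (e1 s) (by rw [← map_mul, hs, map_one])
    (by rw [← hx, ← map_inv, ← map_mul, ← map_mul, hsa, map_inv]) with h | h | h
  · exact ⟨e1, hx, h⟩
  · refine ⟨e1.trans (MulAut.conj xi5), ?_, ?_⟩
    · show xi5 * e1 a * xi5⁻¹ = xi5
      rw [hx, mul_inv_cancel_right]
    · exact h
  · refine ⟨e1.trans (MulAut.conj xi5⁻¹), ?_, ?_⟩
    · show xi5⁻¹ * e1 a * xi5⁻¹⁻¹ = xi5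
      rw [hx, inv_inv, inv_mul_cancel, one_mul]
    · show xi5⁻¹ * e1 s * xi5⁻¹⁻¹ = sg5
      rw [inv_inv]; exact h

theorem five_table :
    (kk5 * kk5 * kk5 = 1 ∧ kk5 ≠ 1) ∧
    (∃ h, h * h * h = 1 ∧ h ≠ 1 ∧ kk5 * h = xi5) ∧
    (∃ g h, h * h * h = 1 ∧ h ≠ 1 ∧ g * sg5 = xi5⁻¹ ∧ g * h⁻¹ = kk5) := by
  refine ⟨by decide +kernel, ⟨kk5⁻¹ * xi5, by decide +kernel⟩,
    ⟨xi5⁻¹ * sg5, kk5⁻¹ * (xi5⁻¹ * sg5), by decide +kernel⟩⟩

/-- Three sums inside one orbit. -/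
theorem five_orbit {M : Type*} [CommGroup M] (φ : alternatingGroup (Fin 5) →* MulAut M)
    (hn : ∀ q, orderOf q = 3 → ∀ m, m * φ q m * φ q⁻¹ m = 1) (h2 : ∀ m : M, m * m = 1)
    {v : M} (hv : φ sg5 v = v) :
    ∃ k a b c, v * φ k v = φ a v ∧ φ xi5 v * φ k v = φ b v ∧ φ xi5⁻¹ v * φ k v = φ c v := by
  have : Fact (Nat.Prime 3) := ⟨Nat.prime_three⟩
  have hord : ∀ q : alternatingGroup (Fin 5), q * q * q = 1 → q ≠ 1 → orderOf q = 3 :=
    fun q h3 h1 => orderOf_eq_prime (by rw [pow_succ, pow_two]; exact h3) h1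
  have hmv : ∀ a b c : M, a * b * c = 1 → a * b = c := fun a b c e => by
    rw [eq_inv_of_mul_eq_one_left e, inv_eq_of_mul_eq_one_right (h2 c)]
  obtain ⟨⟨k3, k1⟩, ⟨h, h3, h1, hkh⟩, ⟨g, h', h3', h1', hgs, hgh⟩⟩ := five_table
  have key : ∀ g h, orderOf h = 3 → φ g v * φ (g * h) v * φ (g * h⁻¹) v = 1 := fun g h ho => by
    have e := congrArg (φ g) (hn h ho v)
    rwa [map_mul (φ g), map_mul (φ g), map_one (φ g), ← MulAut.mul_apply, ← MulAut.mul_apply,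
      ← map_mul, ← map_mul] at e
  refine ⟨kk5, kk5⁻¹, kk5 * h⁻¹, g * h', ?_, ?_, ?_⟩
  · exact hmv _ _ _ (hn kk5 (hord _ k3 k1) v)
  · rw [mul_comm]
    have e := key kk5 h (hord h h3 h1)
    rw [hkh] at e
    exact hmv _ _ _ e
  · have e := key g h' (hord h' h3' h1')
    have eg : φ g v = φ xi5⁻¹ v := by
      rw [← hgs, map_mul, MulAut.mul_apply, hv]
    rw [hgh, eg] at e
    refine hmv _ _ _ ?_
    rw [mul_assoc, mul_comm (φ kk5 v), ← mul_assoc]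
    exact e

end Cfsg.Agent.H37.Amalgam
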