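import Cfsg.Agent.H37.Amalgam.Cent
import Cfsg.Agent.H66.SelfThree.Main
import Cfsg.Agent.H66.OrderSixty
import Cfsg.Agent.H25.InvolutionTransfer

/-!
The extra relation of the amalgam, from the structure of the involution centralizer.
-/

set_option autoImplicit false

namespace Cfsg.Agent.H37.Amalgam

open Subgroup Cfsg.Agent.H66.SelfThree

variable {G : Type*} [Group G] {A B : Subgroup G} {g : Fin 7 → G}

/-- the quotient of the centralizer -/
abbrev Cbar (g : Fin 7 → G) := cen g ⧸ zpowers (teeH g)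

/-- the element `(i k)^3` -/
def fWord : List (Fin 7) := [5, 6, 5, 6, 5, 6]

/-- `c c^x c^{x²}` -/
def pWord (c : List (Fin 7)) : List (Fin 7) := c ++ [2] ++ c ++ [2, 2] ++ [2, 2] ++ c ++ [2]

/-- the four possible extra relations -/
def relWord : Fin 4 → List (Fin 7)
  | 0 => pWord fWord
  | 1 => pWord fWord ++ [3, 4]
  | 2 => pWord ([3] ++ fWord)
  | 3 => pWord ([3] ++ fWord) ++ [3, 4]

namespace Amal

theorem f_cen (h : Amal A B g) :
    (fWord.map g).prod ∈ cen g ∧ (fWord.map g).prod * g 3 = g 3 * (fWord.map g).prod := by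
  -- `i k` permutes the three involutions
  have i1 : g 5 * g 3 = g 4 * g 5 := by
    simpa using h.sideA (w := [5, 3]) (w' := [4, 5]) rfl rfl (by decide +kernel)
  have i2 : g 5 * g 4 = g 3 * g 5 := by
    simpa using h.sideA (w := [5, 4]) (w' := [3, 5]) rfl rfl (by decide +kernel)
  have it : g 5 * tee g = tee g * g 5 := by
    simpa [tee, mul_assoc] using
      h.sideA (w := [5, 3, 4]) (w' := [3, 4, 5]) rfl rfl (by decide +kernel)
  have k1 : g 6 * g 3 = g 3 * g 6 := by
    simpa using h.sideB (w := [6, 3]) (w' := [3, 6]) rfl rfl (by decide +kernel)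
  have k2 : g 6 * g 4 = tee g * g 6 := by
    simpa [tee, mul_assoc] using
      h.sideB (w := [6, 4]) (w' := [3, 4, 6]) rfl rfl (by decide +kernel)
  have k3 : g 6 * tee g = g 4 * g 6 := by
    simpa [tee, mul_assoc] using
      h.sideB (w := [6, 3, 4]) (w' := [4, 6]) rfl rfl (by decide +kernel)
  set w := g 5 * g 6 with hw
  have w3 : w * tee g = g 3 * w := by rw [hw, mul_assoc, k3, ← mul_assoc, i2, mul_assoc]
  have w1 : w * g 3 = g 4 * w := by rw [hw, mul_assoc, k1, ← mul_assoc, i1, mul_assoc]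
  have w2 : w * g 4 = tee g * w := by rw [hw, mul_assoc, k2, ← mul_assoc, it, mul_assoc]
  have hf : (fWord.map g).prod = w * w * w := by simp [fWord, hw, mul_assoc]
  rw [hf]
  constructor
  · refine mem_cen.2 ?_
    calc w * w * w * tee g = w * w * (w * tee g) := by group
      _ = w * (w * g 3) * w := by rw [w3]; group
      _ = w * g 4 * (w * w) := by rw [w1]; group
      _ = tee g * (w * w * w) := by rw [w2]; group
  · calc w * w * w * g 3 = w * w * (w * g 3) := by group
      _ = w * (w * g 4) * w := by rw [w1]; group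
      _ = w * tee g * (w * w) := by rw [w2]; group
      _ = g 3 * (w * w * w) := by rw [w3]; group

/-- the image of `x` -/
abbrev xb (h : Amal A B g) : Cbar g := ((⟨g 2, h.x_mem_cen⟩ : cen g) : Cbar g)

/-- the image of `t₁` -/
abbrev tb (h : Amal A B g) : Cbar g := ((⟨g 3, h.t1_mem_cen⟩ : cen g) : Cbar g)

/-- the image of `i` -/
abbrev ib (h : Amal A B g) : Cbar g := ((⟨g 5, h.i_mem_cen⟩ : cen g) : Cbar g)

theorem mk_eq_of_table (h : Amal A B g) {a b : cen g} {w w' : List (Fin 7)}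
    (ha : (a : G) = (w.map g).prod) (hb : (b : G) = (w'.map g).prod) (hw : w.all okA = true)
    (hw' : w'.all okA = true)
    (he : (∀ p, ev mA w p = ev mA w' p) ∨ ∀ p, ev mA w p = ev mA (w' ++ [3, 4]) p) :
    (a : Cbar g) = b := by
  refine h.mk_eq_iff.2 (he.imp (fun e => Subtype.ext ?_) fun e => Subtype.ext ?_)
  · rw [ha, hb]; exact h.sideA hw hw' e
  · rw [Subgroup.coe_mul, ha, hb, h.sideA hw (by rw [List.all_append, hw']; rfl) e,
      List.map_append, List.prod_append]
    simp [teeH, tee]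

theorem sc_xb (h : Amal A B g) : SC h.xb := by
  set xH : cen g := ⟨g 2, h.x_mem_cen⟩ with hxH
  have x3 : g 2 * g 2 * g 2 = 1 := by
    simpa [mul_assoc] using h.sideA (w := [2, 2, 2]) (w' := []) rfl rfl (by decide +kernel)
  have x1 : g 2 ≠ 1 := by
    simpa using h.rA.ne (w := [2]) (w' := []) rfl rfl (by decide +kernel)
  have xt : g 2 ≠ tee g := by
    simpa [tee] using h.rA.ne (w := [2]) (w' := [3, 4]) rfl rfl (by decide +kernel)
  have ht2 := h.t_sq
  have : Fact (Nat.Prime 3) := ⟨Nat.prime_three⟩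
  refine ⟨orderOf_eq_prime ?_ ?_, fun q hq => ?_⟩
  · show (xH : Cbar g) ^ 3 = 1
    rw [← QuotientGroup.mk_pow, show xH ^ 3 = 1 from Subtype.ext (by
      rw [pow_succ, pow_two]; exact x3), QuotientGroup.mk_one]
  · intro e
    rcases h.mk_eq_iff.1 (e : (xH : Cbar g) = ((1 : cen g) : Cbar g)) with e' | e'
    · exact x1 (congrArg Subtype.val e')
    · rw [one_mul] at e'; exact xt (congrArg Subtype.val e')
  · induction q using QuotientGroup.induction_on with | H u => ?_
    have e : ((u * xH : cen g) : Cbar g) = ((xH * u : cen g) : Cbar g) := hq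
    have hu : (u : G) * tee g = tee g * u := mem_cen.1 u.2
    have hux : (u : G) * g 2 = g 2 * u := by
      rcases h.mk_eq_iff.1 e with e' | e'
      · exact congrArg Subtype.val e'
      · exfalso
        have e2 : (u : G) * g 2 = g 2 * u * tee g := congrArg Subtype.val e'
        have xc : g 2 * tee g = tee g * g 2 := mem_cen.1 h.x_mem_cen
        have e3 : (u : G) * g 2 * (u : G)⁻¹ = g 2 * tee g := by
          rw [e2, mul_assoc (g 2), hu, mul_assoc, mul_inv_cancel_right]
        have e4 : (g 2 * tee g) * (g 2 * tee g) * (g 2 * tee g) = 1 := by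
          rw [← e3]
          calc _ = (u : G) * (g 2 * g 2 * g 2) * (u : G)⁻¹ := by group
            _ = 1 := by rw [x3, mul_one, mul_inv_cancel]
        apply h.t_ne
        have e5 : (g 2 * tee g) ^ 3 = g 2 ^ 3 * tee g ^ 3 := (show Commute (g 2) (tee g) from xc).mul_pow 3
        rw [pow_succ, pow_two, pow_succ, pow_two, pow_succ, pow_two, e4, x3, one_mul, ht2,
          one_mul] at e5
        exact e5.symm
    obtain ⟨n, d, hnd⟩ := h.cent_x hux hu
    refine ⟨n, ?_⟩
    have e5 : u = xH ^ n * teeH g ^ d := Subtype.ext (by simp [hnd, xH, teeH])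
    show h.xb ^ (n : ℤ) = (u : Cbar g)
    rw [zpow_natCast, e5, QuotientGroup.mk_mul_of_mem _ (pow_mem (mem_zpowers _) _),
      QuotientGroup.mk_pow]

theorem tb_inv (h : Amal A B g) : h.tb * h.xb * h.tb⁻¹ = h.xb⁻¹ := by
  rw [mul_inv_eq_iff_eq_mul, eq_inv_mul_iff_mul_eq]
  exact h.mk_eq_of_table (w := [2, 3, 2]) (w' := [3]) (by simp [mul_assoc]) (by simp) rfl rfl
    (Or.inl (by decide +kernel))

theorem tb_sq (h : Amal A B g) : h.tb * h.tb = 1 :=
  h.mk_eq_of_table (w := [3, 3]) (w' := []) (b := 1) (by simp) (by simp) rfl rfl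
    (Or.inl (by decide +kernel))

theorem index_three (h : Amal A B g) (R : Subgroup (Cbar g)) [R.Normal]
    (hc : ¬ 3 ∣ Nat.card R) (hi : R.index = 3) [Finite G] : False := by
  have hs := h.sc_xb.quotient hc
  have e : ((h.tb * h.xb * h.tb⁻¹ : Cbar g) : Cbar g ⧸ R) = ((h.xb⁻¹ : Cbar g) : Cbar g ⧸ R) := by
    rw [h.tb_inv]
  have : Fact (Nat.Prime 3) := ⟨Nat.prime_three⟩
  have hcy : IsCyclic (Cbar g ⧸ R) := isCyclic_of_prime_card (p := 3) (by
    rw [← Subgroup.index_eq_card, hi])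
  obtain ⟨c, hc'⟩ := hcy.exists_generator
  obtain ⟨m, hm⟩ := hc' (h.tb : Cbar g ⧸ R)
  obtain ⟨n, hn⟩ := hc' (h.xb : Cbar g ⧸ R)
  rw [QuotientGroup.mk_mul, QuotientGroup.mk_mul, QuotientGroup.mk_inv, QuotientGroup.mk_inv,
    ← hm, ← hn, (Commute.zpow_zpow_self c m n).eq, mul_inv_cancel_right] at e
  refine hs.ne_one ?_
  have h2 := hs.mul_three
  rw [← hn] at h2 ⊢
  rwa [mul_eq_one_iff_eq_inv.2 e, one_mul] at h2

theorem index_six [Finite G] (h : Amal A B g) (R : Subgroup (Cbar g)) [hR : R.Normal]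
    (hc : ¬ 3 ∣ Nat.card R) (hi : R.index = 6) : ∃ j, ((relWord j).map g).prod = 1 := by
  have hs := h.sc_xb.quotient hc
  set a : Cbar g ⧸ R := (h.xb : Cbar g ⧸ R) with ha
  set s : Cbar g ⧸ R := (h.tb : Cbar g ⧸ R) with hs'
  have hsa : s * a * s⁻¹ = a⁻¹ := by
    rw [hs', ha, ← QuotientGroup.mk_inv, ← QuotientGroup.mk_mul, ← QuotientGroup.mk_mul, h.tb_inv,
      QuotientGroup.mk_inv]
  have hidx : (zpowers a).index = 2 := by
    have e := (zpowers a).index_mul_card
    rw [hs.card_zpowers, ← Subgroup.index_eq_card, hi] at e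
    omega
  have hsna : s ∉ zpowers a := fun hm => by
    obtain ⟨n, hn⟩ := hm
    have e : s * a = a * s := by rw [← hn]; exact ((Commute.refl a).zpow_left n).eq
    rw [e, mul_inv_cancel_right] at hsa
    exact hs.ne_one (by
      have h2 := hs.mul_three
      rwa [mul_eq_one_iff_eq_inv.2 hsa, one_mul] at h2)
  have key : ∀ q : Cbar g ⧸ R, q * s = s * q → q ∈ zpowers a → q = 1 := by
    intro q hq hm
    rcases hs.mem_cases hm with e | e | e
    · exact e
    · exfalso
      rw [e] at hq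
      rw [← hq, mul_inv_cancel_right] at hsa
      exact hs.ne_one (by
        have h2 := hs.mul_three
        rwa [mul_eq_one_iff_eq_inv.2 hsa, one_mul] at h2)
    · exfalso
      rw [e] at hq
      have hq' : a * s = s * a := by
        calc a * s = a * (s * a⁻¹) * a := by group
          _ = a * (a⁻¹ * s) * a := by rw [hq]
          _ = s * a := by group
      rw [← hq', mul_inv_cancel_right] at hsa
      exact hs.ne_one (by
        have h2 := hs.mul_three
        rwa [mul_eq_one_iff_eq_inv.2 hsa, one_mul] at h2)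
  obtain ⟨hfH, hft⟩ := h.f_cen
  set F : cen g := ⟨_, hfH⟩ with hF
  have hcom : ((F : Cbar g) : Cbar g ⧸ R) * s = s * ((F : Cbar g) : Cbar g ⧸ R) :=
    congrArg (fun u : cen g => ((u : Cbar g) : Cbar g ⧸ R))
      (Subtype.ext hft : F * ⟨g 3, h.t1_mem_cen⟩ = ⟨g 3, h.t1_mem_cen⟩ * F)
  have hs2 : s * s = 1 := by rw [hs', ← QuotientGroup.mk_mul, h.tb_sq, QuotientGroup.mk_one]
  -- the chosen element of the radical
  obtain ⟨c, cw, hcw, hcR, hj⟩ : ∃ (c : cen g) (cw : List (Fin 7)), (c : G) = (cw.map g).prod ∧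
      (c : Cbar g) ∈ R ∧ (cw = fWord ∨ cw = [3] ++ fWord) := by
    by_cases hm : ((F : Cbar g) : Cbar g ⧸ R) ∈ zpowers a
    · exact ⟨F, fWord, rfl, (QuotientGroup.eq_one_iff _).1 (key _ hcom hm), Or.inl rfl⟩
    · have hm' : s * ((F : Cbar g) : Cbar g ⧸ R) ∈ zpowers a :=
        ((zpowers a).mul_mem_iff_of_index_two hidx).2 (iff_of_false hsna hm)
      refine ⟨⟨g 3, h.t1_mem_cen⟩ * F, [3] ++ fWord, ?_, ?_, Or.inr rfl⟩
      · simp [F]
      · refine (QuotientGroup.eq_one_iff _).1 (key _ ?_ hm')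
        show s * ((F : Cbar g) : Cbar g ⧸ R) * s = s * (s * ((F : Cbar g) : Cbar g ⧸ R))
        rw [mul_assoc, hcom]
  have hp := (Inv3.of_normal h.xb hR hc).prod_eq_one h.sc_xb hcR
  have hx2 : g 2 * g 2 = (g 2)⁻¹ := eq_inv_of_mul_eq_one_left (by
    simpa [mul_assoc] using h.sideA (w := [2, 2, 2]) (w' := []) rfl rfl (by decide +kernel))
  obtain ⟨P, hP⟩ : ∃ P : cen g, P = c * (⟨g 2, h.x_mem_cen⟩ * c * ⟨g 2, h.x_mem_cen⟩⁻¹) *
    (⟨g 2, h.x_mem_cen⟩⁻¹ * c * ⟨g 2, h.x_mem_cen⟩) := ⟨_, rfl⟩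
  have hval : ((pWord cw).map g).prod = (P : G) := by
    simp only [hP, pWord, List.map_append, List.prod_append, List.map_cons, List.map_nil,
      List.prod_cons, List.prod_nil, mul_one, ← hcw, Subgroup.coe_mul, Subgroup.coe_inv, hx2]
    group
  have hP1 : (P : Cbar g) = ((1 : cen g) : Cbar g) := by rw [hP]; exact hp
  rcases h.mk_eq_iff.1 hP1 with e | e
  · have e' : ((pWord cw).map g).prod = 1 := by rw [hval, e]; rfl
    rcases hj with rfl | rfl
    exacts [⟨0, e'⟩, ⟨2, e'⟩]
  · have e' : ((pWord cw ++ [3, 4]).map g).prod = 1 := by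
      rw [List.map_append, List.prod_append, hval, e, one_mul]
      simpa [teeH, tee] using h.t_sq
    rcases hj with rfl | rfl
    exacts [⟨1, e'⟩, ⟨3, e'⟩]

end Amal

end Cfsg.Agent.H37.Amalgam
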