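import Cfsg.Agent.H37.Amalgam.Local
import Cfsg.Agent.H37.Amalgam.FiveKlein

/-!
The simple quotients of the involution centralizer do not occur; hence the extra relation.
-/

set_option autoImplicit false

namespace Cfsg.Agent.H37.Amalgam

open Subgroup Cfsg.Agent.H66.SelfThree

variable {G : Type*} [Group G] {A B : Subgroup G} {g : Fin 7 → G}

namespace Amal

theorem i_sq (h : Amal A B g) : g 5 * g 5 = tee g := by
  simpa [tee] using h.sideA (w := [5, 5]) (w' := [3, 4]) rfl rfl (by decide +kernel)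

theorem square_conj (h : Amal A B g) {Y u : cen g}
    (e : (Y : Cbar g) = ((u * ⟨g 5, h.i_mem_cen⟩ * u⁻¹ : cen g) : Cbar g)) :
    Y * Y = teeH g := by
  have e0 : (⟨g 5, h.i_mem_cen⟩ : cen g) * ⟨g 5, h.i_mem_cen⟩ = teeH g := Subtype.ext h.i_sq
  have e1 : u * ⟨g 5, h.i_mem_cen⟩ * u⁻¹ * (u * ⟨g 5, h.i_mem_cen⟩ * u⁻¹) = teeH g := by
    calc _ = u * (⟨g 5, h.i_mem_cen⟩ * ⟨g 5, h.i_mem_cen⟩) * u⁻¹ := by group
      _ = teeH g := by rw [e0, teeH_comm, mul_inv_cancel_right]
  rcases h.mk_eq_iff.1 e with rfl | rfl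
  · exact e1
  · generalize u * ⟨g 5, h.i_mem_cen⟩ * u⁻¹ = W at e1 ⊢
    rw [mul_assoc, ← mul_assoc (teeH g) W, ← teeH_comm W, mul_assoc W (teeH g), h.teeH_sq, mul_one,
      e1]

theorem no_altFive [Finite G] (h : Amal A B g) (R : Subgroup (Cbar g)) [hR : R.Normal]
    [IsSimpleGroup (Cbar g ⧸ R)] (hc : ¬ 3 ∣ Nat.card R)
    (hab : ∀ a ∈ R, ∀ b ∈ R, a * b = b * a) {u : Cbar g ⧸ R} (hu : KleinData (h.xb : Cbar g ⧸ R) u)
    (e0 : Cbar g ⧸ R ≃* alternatingGroup (Fin 5)) : False := by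
  have hs := h.sc_xb.quotient hc
  set a : Cbar g ⧸ R := (h.xb : Cbar g ⧸ R) with ha
  set s : Cbar g ⧸ R := (h.tb : Cbar g ⧸ R) with hs'
  obtain ⟨e, ea, es⟩ := five_frame e0 hs.mul_three hs.ne_one
    (by rw [hs', ← QuotientGroup.mk_mul, h.tb_sq, QuotientGroup.mk_one] : s * s = 1)
    (by rw [hs', ha, ← QuotientGroup.mk_inv, ← QuotientGroup.mk_mul, ← QuotientGroup.mk_mul,
      h.tb_inv, QuotientGroup.mk_inv])
  set xH : cen g := ⟨g 2, h.x_mem_cen⟩ with hxH
  set iH : cen g := ⟨g 5, h.i_mem_cen⟩ with hiH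
  set sH : cen g := ⟨g 3, h.t1_mem_cen⟩ with hsH
  have r1 : h.ib * h.ib = 1 := by
    refine h.mk_eq_of_table (a := iH * iH) (b := 1) (w := [5, 5]) (w' := []) ?_ ?_ rfl rfl
      (Or.inr (by decide +kernel)) <;> simp [iH]
  have r2 : h.ib * h.tb = h.tb * h.ib := by
    refine h.mk_eq_of_table (a := iH * sH) (b := sH * iH) (w := [5, 3]) (w' := [3, 5]) ?_ ?_
      rfl rfl (Or.inr (by decide +kernel)) <;> simp [iH, sH]
  have x2 : g 2 * g 2 = (g 2)⁻¹ := eq_inv_of_mul_eq_one_left (by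
    simpa [mul_assoc] using h.sideA (w := [2, 2, 2]) (w' := []) rfl rfl (by decide +kernel))
  have r3 : h.ib * (h.xb * h.ib * h.xb⁻¹) = (h.xb * h.ib * h.xb⁻¹) * h.ib := by
    refine h.mk_eq_of_table (a := iH * (xH * iH * xH⁻¹)) (b := xH * iH * xH⁻¹ * iH)
      (w := [5, 2, 5, 2, 2]) (w' := [2, 5, 2, 2, 5]) ?_ ?_
      rfl rfl (Or.inr (by decide +kernel))
    · simp [iH, xH, ← x2, mul_assoc]
    · simp [iH, xH, ← x2, mul_assoc]
  have hiR : h.ib ∈ R := by
    refine (QuotientGroup.eq_one_iff _).1 (e.map_eq_one_iff.1 (five_no_klein _ ?_ ?_ ?_))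
    · rw [← map_mul, ← QuotientGroup.mk_mul, r1, QuotientGroup.mk_one, map_one]
    · have := congrArg (fun w : Cbar g => e ((w : Cbar g) : Cbar g ⧸ R)) r2
      simp only [QuotientGroup.mk_mul, map_mul] at this
      rw [← hs', es] at this
      exact this
    · have := congrArg (fun w : Cbar g => e ((w : Cbar g) : Cbar g ⧸ R)) r3
      simp only [QuotientGroup.mk_mul, QuotientGroup.mk_inv, map_mul, map_inv] at this
      rw [← ha, ea] at this
      exact this
  obtain ⟨φ, hφ, hn⟩ := exists_action h.sc_xb hc hab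
  letI : CommGroup R :=
    { (inferInstance : Group R) with mul_comm := fun a b => Subtype.ext (hab _ a.2 _ b.2) }
  have h2 : ∀ m : R, m * m = 1 := fun m => Subtype.ext (by
    have := sq_eq_one_of_altFive h.sc_xb hc hab hu e.symm _ m.2
    rw [pow_two] at this
    exact this)
  let v : R := ⟨h.ib, hiR⟩
  let ψ : alternatingGroup (Fin 5) →* MulAut R := φ.comp e.symm.toMonoidHom
  have hψ : ∀ (q : alternatingGroup (Fin 5)) (y : cen g), e ((y : Cbar g) : Cbar g ⧸ R) = q →
      ((ψ q v : R) : Cbar g) = ((y * iH * y⁻¹ : cen g) : Cbar g) := by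
    intro q y hy
    show ((φ (e.symm q) v : R) : Cbar g) = _
    rw [← hy, e.symm_apply_apply, hφ]
    rfl
  obtain ⟨k, ka, kb, kc, h1, h2', h3⟩ := five_orbit ψ (fun q hq m => by
      show m * φ (e.symm q) m * φ (e.symm q⁻¹) m = 1
      rw [map_inv]
      exact hn _ ((e.symm.orderOf_eq q).trans hq) m) h2 (v := v) (by
      apply Subtype.ext
      rw [hψ sg5 sH es]
      show h.tb * h.ib * h.tb⁻¹ = h.ib
      rw [← r2, mul_inv_cancel_right])
  obtain ⟨qk, hqk⟩ := QuotientGroup.mk_surjective (e.symm k)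
  obtain ⟨y, rfl⟩ := QuotientGroup.mk_surjective qk
  have hk : e ((y : Cbar g) : Cbar g ⧸ R) = k := by rw [hqk, e.apply_symm_apply]
  set D : cen g := y * iH * y⁻¹ with hD
  set C : cen g := xH * iH * xH⁻¹ with hC
  have hsq : ∀ (Y : cen g) (q : alternatingGroup (Fin 5)),
      (Y : Cbar g) = ((ψ q v : R) : Cbar g) → Y * Y = teeH g := by
    intro Y q hY
    obtain ⟨p, hp⟩ := QuotientGroup.mk_surjective (e.symm q)
    obtain ⟨w, rfl⟩ := QuotientGroup.mk_surjective p
    exact h.square_conj (u := w) (hY.trans (hψ q w (by rw [hp, e.apply_symm_apply])))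
  have eD : ((ψ k v : R) : Cbar g) = (D : Cbar g) := hψ k y hk
  have eC : ((ψ xi5 v : R) : Cbar g) = (C : Cbar g) := hψ xi5 xH ea
  have hA2 : iH * iH = teeH g := Subtype.ext h.i_sq
  have hC2 : C * C = teeH g := hsq C xi5 eC.symm
  have hD2 : D * D = teeH g := hsq D k eD.symm
  have hAD : (iH * D) * (iH * D) = teeH g := hsq _ ka (by
    rw [← h1, Subgroup.coe_mul, eD]; rfl)
  have hCD : (C * D) * (C * D) = teeH g := hsq _ kb (by
    rw [← h2', Subgroup.coe_mul, eD, eC]; rfl)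
  have hprod : (v : R) * ψ xi5 v * ψ xi5⁻¹ v = 1 := by
    show v * φ (e.symm xi5) v * φ (e.symm xi5⁻¹) v = 1
    rw [map_inv, ← ea, e.symm_apply_apply]
    exact hn _ hs.order v
  have hvc : v * ψ xi5 v = ψ xi5⁻¹ v := by
    rw [eq_inv_of_mul_eq_one_left hprod, inv_eq_of_mul_eq_one_right (h2 _)]
  have hACD : (iH * C * D) * (iH * C * D) = teeH g := hsq _ kc (by
    rw [← h3, ← hvc, Subgroup.coe_mul, Subgroup.coe_mul, eD, eC]; rfl)
  have hAC : (iH * C) * (iH * C) = teeH g := hsq _ xi5⁻¹ (by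
    rw [← hvc, Subgroup.coe_mul, eC]; rfl)
  have T2 := h.teeH_sq
  have anti : ∀ P Q : cen g, P * P = teeH g → Q * Q = teeH g → (P * Q) * (P * Q) = teeH g →
      Q * P = teeH g * (P * Q) := by
    intro P Q hP hQ hPQ
    calc Q * P = P⁻¹ * ((P * Q) * (P * Q)) * Q⁻¹ := by group
      _ = P⁻¹ * teeH g * Q⁻¹ := by rw [hPQ]
      _ = P * (P * P)⁻¹ * (teeH g * ((Q * Q)⁻¹ * Q)) := by group
      _ = P * Q * teeH g := by
        rw [hP, hQ, mul_inv_cancel_left, mul_assoc, inv_eq_of_mul_eq_one_right T2,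
          ← teeH_comm Q]
        exact (mul_assoc _ _ _).symm
      _ = teeH g * (P * Q) := teeH_comm _
  have a1 := anti iH D hA2 hD2 hAD
  have a2 := anti iH C hA2 hC2 hAC
  have hone : (iH * C * D) * (iH * C * D) = 1 := by
    calc (iH * C * D) * (iH * C * D) = iH * C * (D * iH) * (C * D) := by group
      _ = iH * (C * teeH g) * (iH * D) * (C * D) := by rw [a1]; group
      _ = iH * teeH g * (C * iH) * D * (C * D) := by rw [teeH_comm C]; group
      _ = iH * (teeH g * teeH g) * (iH * C) * D * (C * D) := by rw [a2]; group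
      _ = (iH * iH) * ((C * D) * (C * D)) := by rw [T2]; group
      _ = 1 := by rw [hA2, hCD, T2]
  exact h.t_ne (congrArg Subtype.val (hACD.symm.trans hone))

theorem no_card_168 [Finite G] (h : Amal A B g) (hsimp : IsSimpleGroup (Cbar g))
    (h168 : Nat.card (Cbar g) = 168) : False := by
  have : Fact (Nat.Prime 2) := ⟨Nat.prime_two⟩
  have x2 : g 2 * g 2 = (g 2)⁻¹ := eq_inv_of_mul_eq_one_left (by
    simpa [mul_assoc] using h.sideA (w := [2, 2, 2]) (w' := []) rfl rfl (by decide +kernel))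
  set xH : cen g := ⟨g 2, h.x_mem_cen⟩ with hxH
  set iH : cen g := ⟨g 5, h.i_mem_cen⟩ with hiH
  set sH : cen g := ⟨g 3, h.t1_mem_cen⟩ with hsH
  set m : cen g := sH * (xH * iH * xH⁻¹) with hm
  have hmv : (m : G) = (([3, 2, 5, 2, 2] : List (Fin 7)).map g).prod := by
    simp [m, sH, xH, iH, ← x2, mul_assoc]
  have m2 : (m : Cbar g) * m = h.ib := by
    refine h.mk_eq_of_table (a := m * m) (b := iH) (w := [3, 2, 5, 2, 2, 3, 2, 5, 2, 2])
      (w' := [5]) ?_ ?_ rfl rfl (Or.inl (by decide +kernel))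
    · rw [show ((m * m : cen g) : G) = (m : G) * (m : G) from rfl, hmv, ← List.prod_append]; rfl
    · simp [iH]
  have r1 : h.ib * h.ib = 1 := by
    refine h.mk_eq_of_table (a := iH * iH) (b := 1) (w := [5, 5]) (w' := []) ?_ ?_ rfl rfl
      (Or.inr (by decide +kernel)) <;> simp [iH]
  have i1 : h.ib ≠ 1 := by
    intro e
    have hne1 := h.rA.ne (w := [5]) (w' := []) rfl rfl (by decide +kernel)
    have hne2 := h.rA.ne (w := [5]) (w' := [3, 4]) rfl rfl (by decide +kernel)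
    rcases h.mk_eq_iff.1 (e.trans (QuotientGroup.mk_one _).symm :
      ((iH : cen g) : Cbar g) = ((1 : cen g) : Cbar g)) with e' | e'
    · exact hne1 (by simpa using congrArg Subtype.val e')
    · exact hne2 (by simpa [teeH, tee, iH] using congrArg Subtype.val e')
  have tm : h.tb * (m : Cbar g) * h.tb⁻¹ = ((m : Cbar g))⁻¹ := by
    rw [mul_inv_eq_iff_eq_mul, eq_inv_mul_iff_mul_eq]
    refine h.mk_eq_of_table (a := m * (sH * m)) (b := sH)
      (w := [3, 2, 5, 2, 2, 3, 3, 2, 5, 2, 2]) (w' := [3]) ?_ ?_ rfl rfl ?_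
    · rw [show ((m * (sH * m) : cen g) : G) = (m : G) * ((sH : G) * (m : G)) from rfl, hmv]
      simp [sH, mul_assoc]
    · simp [sH]
    · exact Or.inr (by decide +kernel)
  set μ : Cbar g := (m : Cbar g) with hμ
  set τ : Cbar g := h.tb with hτ
  have o4 : orderOf μ = 4 := orderOf_eq_prime_pow (p := 2) (n := 1)
    (by rw [pow_one, pow_two, m2]; exact i1)
    (by rw [show (2 : ℕ) ^ (1 + 1) = 2 * 2 from rfl, pow_mul, pow_two, pow_two, m2, r1])
  have τ1 : τ ≠ 1 := by
    intro e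
    have := h.tb_inv
    rw [← hτ, e, one_mul, inv_one, mul_one] at this
    exact h.sc_xb.ne_one (by
      have h3 := h.sc_xb.mul_three
      rwa [mul_eq_one_iff_eq_inv.2 this, one_mul] at h3)
  have oτ : orderOf τ = 2 := orderOf_eq_prime (by rw [pow_two]; exact h.tb_sq) τ1
  have hτn : τ ∈ normalizer (zpowers μ : Set (Cbar g)) := mem_normalizer_of_inv (Or.inr tm)
  have hτμ : τ ∉ zpowers μ := by
    rintro ⟨n, hn⟩
    have e : τ * μ = μ * τ := by rw [← hn]; exact ((Commute.refl μ).zpow_left n).eq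
    rw [e, mul_inv_cancel_right] at tm
    apply i1
    rw [← m2]
    exact mul_eq_one_iff_eq_inv.2 tm
  have pμ : IsPGroup 2 (zpowers μ) := IsPGroup.of_card (n := 2) (by rw [Nat.card_zpowers, o4]; norm_num)
  have pτ : IsPGroup 2 (zpowers τ) := IsPGroup.of_card (n := 1) (by rw [Nat.card_zpowers, oτ]; norm_num)
  obtain ⟨P, hP⟩ := (IsPGroup.to_sup_of_normal_left' pμ pτ (zpowers_le.2 hτn)).exists_le_sylow
  have hP8 : Nat.card (P : Subgroup (Cbar g)) = 8 := by
    rw [show Nat.card (P : Subgroup (Cbar g)) = Nat.card P from rfl, P.card_eq_multiplicity, h168,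
      show (168 : ℕ) = 2 ^ 3 * 21 from rfl,
      Nat.factorization_mul (by norm_num) (by norm_num), Finsupp.add_apply,
      Nat.prime_two.factorization_pow,
      Nat.factorization_eq_zero_of_not_dvd (n := 21) (by norm_num)]
    simp
  have hrel : (zpowers μ).relIndex (P : Subgroup (Cbar g)) = 2 := by
    have e := ((zpowers μ).subgroupOf (P : Subgroup (Cbar g))).index_mul_card
    rw [Nat.card_congr (subgroupOfEquivOfLe (le_sup_left.trans hP)).toEquiv, Nat.card_zpowers, o4,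
      hP8] at e
    show ((zpowers μ).subgroupOf (P : Subgroup (Cbar g))).index = 2
    omega
  rcases Cfsg.Agent.H25.thompson_transfer P (zpowers μ) (le_sup_left.trans hP) hrel τ oτ
    (hP (Subgroup.mem_sup_right (mem_zpowers τ))) hτμ with ⟨M, hMn, hM, -⟩ | ⟨w, hw⟩
  · rcases hsimp.eq_bot_or_eq_top_of_normal M hMn with e | e
    · rw [e, Subgroup.index_bot, h168] at hM; omega
    · rw [e, Subgroup.index_top] at hM; omega
  · obtain ⟨n, hn⟩ := hw
    simp only at hn
    have hsq : (μ ^ n) * (μ ^ n) = 1 := by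
      rw [hn, show w * τ * w⁻¹ * (w * τ * w⁻¹) = w * (τ * τ) * w⁻¹ by group, h.tb_sq]
      group
    have hne : μ ^ n ≠ 1 := by
      rw [hn]
      intro e
      exact τ1 (conj_eq_one_iff.1 e)
    have hd : (4 : ℤ) ∣ 2 * n := by
      rw [← zpow_add, ← orderOf_dvd_iff_zpow_eq_one, o4] at hsq
      rw [show (2 : ℤ) * n = n + n by ring]
      exact_mod_cast hsq
    have hn2 : ¬ (4 : ℤ) ∣ n := fun hd' => hne (orderOf_dvd_iff_zpow_eq_one.1 (by
      rw [o4]; exact_mod_cast hd'))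
    obtain ⟨l, hl⟩ : ∃ l : ℤ, n = 4 * l + 2 := ⟨n / 4, by omega⟩
    have hpow : μ ^ n = h.ib := by
      rw [hl, zpow_add, zpow_mul, show μ ^ (4 : ℤ) = 1 by
          rw [show (4 : ℤ) = ((4 : ℕ) : ℤ) from rfl, zpow_natCast, ← o4, pow_orderOf_eq_one],
        one_zpow, one_mul, zpow_two, m2]
    obtain ⟨y, rfl⟩ := QuotientGroup.mk_surjective w
    rw [hpow] at hn
    have e1 : (y * sH * y⁻¹) * (y * sH * y⁻¹) = 1 := by
      have hs : sH * sH = 1 := Subtype.ext (by
        simpa [sH] using h.sideA (w := [3, 3]) (w' := []) rfl rfl (by decide +kernel))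
      calc _ = y * (sH * sH) * y⁻¹ := by group
        _ = 1 := by rw [hs, mul_one, mul_inv_cancel]
    have e2 := h.square_conj (Y := y * sH * y⁻¹) (u := 1) (by
      rw [one_mul, inv_one, mul_one]
      exact hn.symm)
    exact h.t_ne (congrArg Subtype.val (e2.symm.trans e1))

/-- The extra relation. -/
theorem exists_rel [Finite G] (h : Amal A B g) : ∃ j, ((relWord j).map g).prod = 1 := by
  obtain ⟨R, hR, hc, h3 | ⟨h6, -⟩ | ⟨hsimp, hnc, hcard, u, hu⟩⟩ := shape h.sc_xb
  · exact (h.index_three R hc h3).elim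
  · exact h.index_six R hc h6
  exfalso
  have hab := abelian_of_simple_quotient h.sc_xb hc hnc
  rcases hcard with h60 | h168
  · have : Fact (Nat.Prime 5) := ⟨by norm_num⟩
    have hns : Nat.card (Sylow 5 (Cbar g ⧸ R)) ≠ 1 := fun e => by
      have : Subsingleton (Sylow 5 (Cbar g ⧸ R)) := (Nat.card_eq_one_iff_unique.1 e).1
      obtain ⟨P⟩ := (inferInstance : Nonempty (Sylow 5 (Cbar g ⧸ R)))
      have hP : Nat.card (P : Subgroup (Cbar g ⧸ R)) = 5 := by
        rw [P.card_eq_multiplicity, h60, show (60 : ℕ) = 5 * 12 by norm_num,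
          Nat.factorization_mul (by norm_num) (by norm_num), Finsupp.add_apply,
          Nat.Prime.factorization_self (by norm_num),
          Nat.factorization_eq_zero_of_not_dvd (by norm_num : ¬ 5 ∣ 12), add_zero, pow_one]
      rcases (Sylow.normal_of_subsingleton P).eq_bot_or_eq_top with e' | e'
      · rw [e', Subgroup.card_bot] at hP; omega
      · rw [e', Subgroup.card_top, h60] at hP; omega
    obtain ⟨e⟩ := Cfsg.Agent.H66.iso_altFive h60 hns
    exact h.no_altFive R hc hab hu e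
  · have hbot := eq_bot_of_card_168 h.sc_xb hc hab hu h168
    subst hbot
    have e : Cbar g ⧸ (⊥ : Subgroup (Cbar g)) ≃* Cbar g := QuotientGroup.quotientBot
    exact h.no_card_168 e.symm.isSimpleGroup ((Nat.card_congr e.toEquiv).symm.trans h168)

end Amal

end Cfsg.Agent.H37.Amalgam
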