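import Cfsg.Agent.H37.Amalgam.Cent
import Cfsg.Agent.H37.Amalgam.DagTree
import Cfsg.Agent.H45.CosetPerm

/-!
From a closed coset table over the first side to the action on its cosets.
Letters `0 … 6` are the generators, `7 … 13` their inverses.
-/

set_option autoImplicit false

namespace Cfsg.Agent.H37.Amalgam

open Cfsg.Agent.H45 (evalW evalW_cons evalW_append evalW_nil linv tget colOK colOK_sound Hyp Dat
  closeCheck closeCheck_sound cosets_exhaust range_all)

variable {G : Type*} [Group G] {A B : Subgroup G} {g : Fin 7 → G}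

/-- formal inverses of the letters -/
def invl : List ℕ := [7, 8, 9, 10, 11, 12, 13, 0, 1, 2, 3, 4, 5, 6]

/-- the values of the letters -/
def eL (g : Fin 7 → G) (l : ℕ) : G :=
  if h : l < 7 then g ⟨l, h⟩ else if h' : l < 14 then (g ⟨l - 7, by omega⟩)⁻¹ else 1

/-- one less than the orders of the generators -/
def negExp : Fin 7 → ℕ := ![2, 2, 2, 1, 1, 3, 3]

/-- a letter as a positive word -/
def expand (l : ℕ) : List (Fin 7) :=
  if h : l < 7 then [⟨l, h⟩]
  else if h' : l < 14 then List.replicate (negExp ⟨l - 7, by omega⟩) ⟨l - 7, by omega⟩ else []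

/-- a word as a positive word -/
def expandL (w : List ℕ) : List (Fin 7) := w.flatMap expand

/-- a relator which holds in one of the two sides -/
def okRel (r : List ℕ) : Bool :=
  ((expandL r).all okA && (List.finRange 9).all fun p => decide (ev mA (expandL r) p = p)) ||
  ((expandL r).all okB && (List.finRange 9).all fun p => decide (ev mB (expandL r) p = p))

theorem eL_linv (g : Fin 7 → G) (l : ℕ) : eL g (linv invl l) = (eL g l)⁻¹ := by
  rcases Nat.lt_or_ge l 14 with h | h
  · interval_cases l <;> simp [eL, linv, invl]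
  · rw [show linv invl l = l by
      rw [linv, List.getD_eq_getElem?_getD, List.getElem?_eq_none (by simp [invl]; omega)]; rfl]
    simp [eL, show ¬ l < 7 by omega, show ¬ l < 14 by omega]

theorem linv_lt : ∀ l, l < 14 → linv invl l < 14 := by
  intro l hl
  interval_cases l <;> decide

namespace Amal

theorem pow_negExp (h : Amal A B g) : ∀ j : Fin 7, g j ^ negExp j = (g j)⁻¹ := by
  intro j
  refine eq_inv_of_mul_eq_one_left ?_
  rw [← pow_succ]
  have key : ∀ (m : Fin 7 → Fin 9 → Fin 9) (ok : Fin 7 → Bool) (H : Subgroup G)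
      (ws : List (List (Fin 7))), Reps H g ok m ws → ok j = true →
      (∀ p, ev m (List.replicate (negExp j + 1) j) p = p) → g j ^ (negExp j + 1) = 1 := by
    intro m ok H ws hr hok he
    have := hr.one (w := List.replicate (negExp j + 1) j) (by simp [hok]) he
    rwa [List.map_replicate, List.prod_replicate] at this
  by_cases hj : j = 6
  · subst hj
    exact key _ _ _ _ h.rB rfl (by decide +kernel)
  · refine key _ _ _ _ h.rA (by simpa [okA] using hj) ?_
    clear key
    revert hj
    revert j
    decide +kernel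

theorem eL_expand (h : Amal A B g) (l : ℕ) : eL g l = ((expand l).map g).prod := by
  unfold eL expand
  split_ifs
  · simp
  · rw [List.map_replicate, List.prod_replicate, h.pow_negExp]
  · simp

theorem evalW_expandL (h : Amal A B g) : ∀ w : List ℕ, evalW (eL g) w = ((expandL w).map g).prod
  | [] => rfl
  | l :: w => by
    rw [evalW_cons, evalW_expandL h w, h.eL_expand, expandL, expandL, List.flatMap_cons,
      List.map_append, List.prod_append]

theorem okRel_sound (h : Amal A B g) {r : List ℕ} (hr : okRel r = true) : evalW (eL g) r = 1 := by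
  rw [h.evalW_expandL]
  simp only [okRel, Bool.or_eq_true, Bool.and_eq_true] at hr
  rcases hr with ⟨h1, h2⟩ | ⟨h1, h2⟩
  · exact h.rA.one h1 fun p => of_decide_eq_true (List.all_eq_true.1 h2 p (List.mem_finRange p))
  · exact h.rB.one h1 fun p => of_decide_eq_true (List.all_eq_true.1 h2 p (List.mem_finRange p))

theorem relators (h : Amal A B g) {R : List (List ℕ)} {w0 : List (Fin 7)}
    (hR : R.all (fun r => okRel r || decide (r = w0.map Fin.val)) = true)
    (h0 : (w0.map g).prod = 1) : ∀ r ∈ R, evalW (eL g) r = 1 := by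
  intro r hr
  have := List.all_eq_true.1 hR r hr
  simp only [Bool.or_eq_true, decide_eq_true_eq] at this
  rcases this with e | rfl
  · exact h.okRel_sound e
  · rw [evalW, List.map_map, ← h0]
    refine congrArg List.prod (List.map_congr_left fun j _ => ?_)
    show eL g (j : ℕ) = g j
    simp [eL, j.isLt]

theorem eL_mem (h : Amal A B g) {l : ℕ} (hl : l < 6 ∨ 7 ≤ l ∧ l < 13) : eL g l ∈ A := by
  have hA : ∀ j : Fin 7, j ≠ 6 → g j ∈ A := fun j hj => h.rA.mem j (by simpa [okA] using hj)
  unfold eL
  rcases hl with hl | hl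
  · rw [dif_pos (by omega)]
    exact hA _ (by simp [Fin.ext_iff]; omega)
  · rw [dif_neg (by omega), dif_pos (by omega)]
    exact inv_mem (hA _ (by simp [Fin.ext_iff]; omega))

theorem k_not_mem (h : Amal A B g) : eL g 6 ∉ A := by
  rw [show eL g 6 = g 6 from dif_pos (by omega : 6 < 7)]
  exact h.notk

theorem eq_top_of_k (h : Amal A B g) {M : Subgroup G} (hAM : A ≤ M) (hk : g 6 ∈ M) : M = ⊤ := by
  refine eq_top_iff.2 (h.gen ▸ sup_le hAM fun b hb => ?_)
  obtain ⟨w, -, -, rfl⟩ := h.rB.surj b hb
  refine M.list_prod_mem fun a ha => ?_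
  obtain ⟨j, -, rfl⟩ := List.mem_map.1 ha
  by_cases hj : j = 6
  · rwa [hj]
  · exact hAM (h.rA.mem j (by simpa [okA] using hj))

end Amal

/-- the pairs of identified points generated from the first ones -/
def mkPairs (cols : List ℕ) : List (ℕ × ℕ) → List (ℕ × ℕ) → List (ℕ × ℕ)
  | [], P => P
  | (s, l) :: rest, P =>
    mkPairs cols rest (P ++ [(tget cols (P.getD s (0, 0)).1 l, tget cols (P.getD s (0, 0)).2 l)])

/-- walk through pairs -/
def follow (P : List (ℕ × ℕ)) : List ℕ → ℕ → ℕ
  | [], c => c
  | s :: rest, c =>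
    follow P rest (if c = (P.getD s (0, 0)).1 then (P.getD s (0, 0)).2
      else if c = (P.getD s (0, 0)).2 then (P.getD s (0, 0)).1 else c)

/-- letters of the first side -/
def isA (l : ℕ) : Bool := decide (l < 6 ∨ 7 ≤ l ∧ l < 13)

/-- a certificate that identifying any point with zero collapses the table -/
def sepCheck (n : ℕ) (cols : List ℕ) (reps : List (ℕ × List (ℕ × ℕ) × List ℕ))
    (words : List (ℕ × List ℕ)) : Bool :=
  (reps.all fun x => decide (x.1 < n) && x.2.1.all (fun s => decide (s.2 < 14)) &&
      decide (follow (mkPairs cols x.2.1 [(0, x.1)]) x.2.2 0 = tget cols 0 6)) &&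
  ((List.range 14).all fun l => !isA l || decide (tget cols 0 l = 0)) &&
  ((List.range n).all fun i => decide (i = 0) ||
      decide ((words.getD i (0, [])).1 < reps.length) && (words.getD i (0, [])).2.all isA &&
        decide (Cfsg.Agent.H45.walkT cols (words.getD i (0, [])).2 i =
          (reps.getD (words.getD i (0, [])).1 (0, [], [])).1))

/-- the columns are mutually inverse permutations -/
noncomputable def colsOK (n : ℕ) (cols : List ℕ) : Bool :=
  (List.range 14).all fun l => colOK (cols.getD l 0) (cols.getD (linv invl l) 0) n n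

namespace Amal

/-- The action on the cosets of the first side. -/
theorem action [Finite G] (h : Amal A B g) {n : ℕ} {cols : List ℕ} {R S : List (List ℕ)}
    {tree : List ℕ} {bs : List Cfsg.Agent.H45.Blk} {reps : List (ℕ × List (ℕ × ℕ) × List ℕ)}
    {words : List (ℕ × List ℕ)}
    (hD : Hyp ⟨14, invl, cols, R, S⟩ (eL g) A)
    (hclose : closeCheck ⟨14, invl, cols, R, S⟩ n tree bs = true)
    (hcols : colsOK n cols = true) (hsep : sepCheck n cols reps words = true)
    (hn : 0 < n) (hmove : ∃ i < n, tget cols i 7 ≠ i) :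
    ∃ φ : G →* Equiv.Perm (Fin n), Function.Injective φ ∧ Nat.card G = n * 432 ∧
      (∀ l, l < 14 → ∀ i : Fin n, (φ (eL g l) i : ℕ) = tget cols i (linv invl l)) ∧
      ∀ M : Subgroup G, A ≤ M → M = A ∨ M = ⊤ := by
  obtain ⟨htr, w, hw0, -, hw⟩ := closeCheck_sound (E := ⊤) hD (fun _ _ => Subgroup.mem_top _) hclose
  have hlt : ∀ l, l < 14 → ∀ i, i < n → tget cols i l < n := fun l hl i hi =>
    (colOK_sound (range_all hcols hl) i hi).1
  have hback : ∀ l, l < 14 → ∀ i, i < n → tget cols (tget cols i l) (linv invl l) = i :=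
    fun l hl i hi => (colOK_sound (range_all hcols hl) i hi).2
  simp only [sepCheck, Bool.and_eq_true] at hsep
  obtain ⟨⟨hreps, hzero⟩, hwords⟩ := hsep
  have hgen : (⊤ : Subgroup G) ≤ Subgroup.closure {a | ∃ l < 14, eL g l = a} := by
    refine h.gen ▸ sup_le (fun a ha => ?_) (fun a ha => ?_)
    · obtain ⟨v, -, -, rfl⟩ := h.rA.surj a ha
      refine Subgroup.list_prod_mem _ fun b hb => ?_
      obtain ⟨j, -, rfl⟩ := List.mem_map.1 hb
      exact Subgroup.subset_closure ⟨j, by omega, by simp [eL, j.isLt]⟩
    · obtain ⟨v, -, -, rfl⟩ := h.rB.surj a ha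
      refine Subgroup.list_prod_mem _ fun b hb => ?_
      obtain ⟨j, -, rfl⟩ := List.mem_map.1 hb
      exact Subgroup.subset_closure ⟨j, by omega, by simp [eL, j.isLt]⟩
  have hexh : ∀ a : G, ∃ i, i < n ∧ a * (w i)⁻¹ ∈ A := fun a =>
    cosets_exhaust (iv := invl) hgen (fun l hl => ⟨linv_lt l hl, eL_linv g l⟩) hlt hn hw0 hw a
      (Subgroup.mem_top a)
  -- a subgroup identifying two cosets contains `k`
  have hclosed : ∀ M : Subgroup G, A ≤ M → ∀ a b l, a < n → b < n → l < 14 →
      w a * (w b)⁻¹ ∈ M → w (tget cols a l) * (w (tget cols b l))⁻¹ ∈ M := by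
    intro M hM a b l ha hb hl hab
    have := M.mul_mem (M.mul_mem (M.inv_mem (hM (hw a ha l hl))) hab) (hM (hw b hb l hl))
    simpa [mul_assoc] using this
  have hcollapse : ∀ M : Subgroup G, A ≤ M → ∀ i, i < n → i ≠ 0 → w i ∈ M → M = ⊤ := by
    intro M hM i hi hi0 hwi
    have hrel : w 0 * (w i)⁻¹ ∈ M := by rw [hw0, one_mul]; exact M.inv_mem hwi
    have hW := range_all hwords hi
    rw [decide_eq_false hi0, Bool.false_or, Bool.and_eq_true, Bool.and_eq_true,
      decide_eq_true_eq, decide_eq_true_eq] at hW
    generalize words.getD i (0, []) = x at hW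
    obtain ⟨⟨hr, hA'⟩, hwalk⟩ := hW
    have hv : ∀ (v : List ℕ) (a : ℕ), v.all isA = true → a < n → w 0 * (w a)⁻¹ ∈ M →
        Cfsg.Agent.H45.walkT cols v a < n ∧ w 0 * (w (Cfsg.Agent.H45.walkT cols v a))⁻¹ ∈ M := by
      intro v
      induction v with
      | nil => exact fun a _ ha hab => ⟨ha, hab⟩
      | cons l v ih =>
        intro a hv ha hab
        rw [List.all_cons, Bool.and_eq_true] at hv
        have hl : l < 14 := by have := of_decide_eq_true hv.1; omega
        have hz := range_all hzero hl
        rw [hv.1, Bool.not_true, Bool.false_or, decide_eq_true_eq] at hz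
        refine ih _ hv.2 (hlt l hl a ha) ?_
        have := hclosed M hM 0 a l hn ha hl hab
        rwa [hz] at this
    obtain ⟨-, hrep⟩ := hv _ i hA' hi hrel
    rw [hwalk] at hrep
    have hmem : reps.getD x.1 (0, [], []) ∈ reps := by
      rw [List.getD_eq_getElem?_getD, List.getElem?_eq_getElem hr]
      exact List.getElem_mem hr
    have hR := List.all_eq_true.1 hreps _ hmem
    generalize reps.getD x.1 (0, [], []) = y at hR hrep
    obtain ⟨r, steps, path⟩ := y
    simp only [Bool.and_eq_true, decide_eq_true_eq, List.all_eq_true] at hR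
    obtain ⟨⟨hrn, hsteps⟩, hpath⟩ := hR
    -- all generated pairs are identified
    let Ok : ℕ × ℕ → Prop := fun p => p.1 < n ∧ p.2 < n ∧ w p.1 * (w p.2)⁻¹ ∈ M
    have hget : ∀ (P : List (ℕ × ℕ)), (∀ p ∈ P, Ok p) → ∀ s, Ok (P.getD s (0, 0)) := by
      intro P hP s
      rw [List.getD_eq_getElem?_getD]
      rcases hs : P[s]? with _ | p
      · refine ⟨hn, hn, ?_⟩
        show w 0 * (w 0)⁻¹ ∈ M
        simp
      · exact hP p (List.mem_of_getElem? hs)
    have hmk : ∀ (st P : List (ℕ × ℕ)), (∀ s ∈ st, s.2 < 14) → (∀ p ∈ P, Ok p) →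
        ∀ p ∈ mkPairs cols st P, Ok p := by
      intro st
      induction st with
      | nil => exact fun P _ hP => hP
      | cons s st ih =>
        obtain ⟨s, l⟩ := s
        intro P hs hP
        refine ih _ (fun u hu => hs u (List.mem_cons_of_mem _ hu)) fun p hp => ?_
        rcases List.mem_append.1 hp with hp | hp
        · exact hP p hp
        · obtain rfl := List.mem_singleton.1 hp
          obtain ⟨h1, h2, h3⟩ := hget P hP s
          have hl : l < 14 := hs (s, l) List.mem_cons_self
          exact ⟨hlt l hl _ h1, hlt l hl _ h2, hclosed M hM _ _ l h1 h2 hl h3⟩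
    have hP := hmk steps [(0, r)] hsteps fun p hp => by
      obtain rfl := List.mem_singleton.1 hp
      exact ⟨hn, hrn, hrep⟩
    generalize mkPairs cols steps [(0, r)] = P at hP hpath
    have hfol : ∀ (v : List ℕ) (c : ℕ), c < n → w 0 * (w c)⁻¹ ∈ M →
        w 0 * (w (follow P v c))⁻¹ ∈ M := by
      intro v
      induction v with
      | nil => exact fun c _ hc => hc
      | cons s v ih =>
        intro c hc hm
        obtain ⟨h1, h2, h3⟩ := hget P hP s
        rw [follow]
        split_ifs with e1 e2
        · refine ih _ h2 ?_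
          have := M.mul_mem hm (e1 ▸ h3)
          simpa [mul_assoc] using this
        · refine ih _ h1 ?_
          have := M.mul_mem hm (M.inv_mem h3)
          rw [e2] at this
          simpa [mul_assoc] using this
        · exact ih _ hc hm
    have h6 := hfol path 0 hn (by simp)
    rw [hpath] at h6
    refine h.eq_top_of_k hM ?_
    have h7 := M.mul_mem (hM (hw 0 hn 6 (show 6 < 14 by omega))) (M.inv_mem h6)
    rw [hw0] at h7
    simpa [eL] using h7
  -- the cosets are distinct
  have hne : A ≠ ⊤ := fun e => h.notk (e ▸ Subgroup.mem_top _)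
  have hdist : ∀ a, a < n → ∀ b, b < n → w a * (w b)⁻¹ ∈ A → a = b := by
    intro a
    induction a using Nat.strong_induction_on with
    | _ a ih =>
      intro ha b hb hab
      rcases Nat.eq_zero_or_pos a with rfl | ha0
      · by_contra hb0
        rw [hw0, one_mul] at hab
        exact hne (hcollapse A le_rfl b hb (Ne.symm hb0) (by simpa using A.inv_mem hab))
      · obtain ⟨p, l, hp, hl, hpl⟩ := htr a ha0 ha
        have hl' : l < 14 := hl
        have hpn : p < n := lt_trans hp ha
        have e1 : tget cols a (linv invl l) = p := by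
          rw [show a = tget cols p l from hpl.symm]; exact hback l hl' p hpn
        have h2 := hclosed A le_rfl a b (linv invl l) ha hb (linv_lt l hl') hab
        rw [e1] at h2
        have e2 := ih p hp hpn _ (hlt _ (linv_lt l hl') b hb) h2
        have hb2 := hback (linv invl l) (linv_lt l hl') b hb
        have hll : linv invl (linv invl l) = l := by
          clear * - hl'
          interval_cases l <;> decide
        rw [hll, ← e2] at hb2
        exact hpl ▸ hb2
  let F : Fin n → G ⧸ A := fun i => ((w i)⁻¹ : G)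
  have hF : Function.Bijective F := by
    constructor
    · intro i j e
      have e' := QuotientGroup.eq.1 e
      rw [inv_inv] at e'
      exact Fin.ext (hdist i i.isLt j j.isLt e')
    · intro q
      induction q using QuotientGroup.induction_on with | H a => ?_
      obtain ⟨i, hi, hm⟩ := hexh a⁻¹
      refine ⟨⟨i, hi⟩, QuotientGroup.eq.2 ?_⟩
      rw [inv_inv]
      simpa using A.inv_mem hm
  let E := Equiv.ofBijective F hF
  let φ : G →* Equiv.Perm (Fin n) :=
    E.symm.permCongrHom.toMonoidHom.comp (MulAction.toPermHom G (G ⧸ A))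
  have hact : ∀ (a : G) (i : Fin n), E (φ a i) = a • E i := fun a i => by
    simp [φ, Equiv.permCongrHom, Equiv.permCongr_def]
  have hφ : ∀ l, l < 14 → ∀ i : Fin n, (φ (eL g l) i : ℕ) = tget cols i (linv invl l) := by
    intro l hl i
    have hl' := linv_lt l hl
    suffices φ (eL g l) i = ⟨_, hlt _ hl' i i.isLt⟩ from congrArg Fin.val this
    apply E.injective
    rw [hact]
    show ((eL g l * (w i)⁻¹ : G) : G ⧸ A) = ((w (tget cols i (linv invl l)))⁻¹ : G)
    rw [QuotientGroup.eq]
    have := hw i i.isLt _ hl'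
    rw [eL_linv] at this
    simpa [mul_assoc] using this
  have hindex : A.index = n := by
    rw [Subgroup.index_eq_card, ← Nat.card_congr E, Nat.card_fin]
  refine ⟨φ, ?_, by rw [← A.index_mul_card, hindex, h.cardA], hφ, fun M hM => ?_⟩
  · rw [← MonoidHom.ker_eq_bot_iff]
    by_contra hk
    obtain ⟨⟨a, ha⟩, ha1⟩ := Subgroup.ne_bot_iff_exists_ne_one.1 hk
    have haA : a ∈ A := by
      have e := hact a ⟨0, hn⟩
      rw [MonoidHom.mem_ker.1 ha] at e
      have e' : ((1 : G) : G ⧸ A) = (a : G ⧸ A) := by
        simpa [E, F, hw0] using e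
      simpa using QuotientGroup.eq.1 e'
    have hz := h.minA φ.ker φ.normal_ker a haA (fun e => ha1 (Subtype.ext e)) ha
    obtain ⟨i, hi, hne'⟩ := hmove
    apply hne'
    have := hφ 0 (by omega) ⟨i, hi⟩
    rw [show eL g 0 = g 0 from dif_pos (by omega : 0 < 7), MonoidHom.mem_ker.1 hz] at this
    simpa [linv, invl] using this.symm
  · by_cases hMA : M ≤ A
    · exact Or.inl (le_antisymm hMA hM)
    · obtain ⟨a, haM, haA⟩ := SetLike.not_le_iff_exists.1 hMA
      obtain ⟨i, hi, hm⟩ := hexh a
      refine Or.inr (hcollapse M hM i hi (fun e => haA ?_) ?_)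
      · rw [e, hw0, inv_one, mul_one] at hm; exact hm
      · have := M.mul_mem (M.inv_mem (hM hm)) haM
        simpa [mul_assoc] using this

end Amal

end Cfsg.Agent.H37.Amalgam
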