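import Cfsg.Agent.H37.Amalgam.LocalSimple
import Cfsg.Agent.H37.Amalgam.Table
import Cfsg.Agent.H37.Amalgam.Cert.DagThirteen
import Cfsg.Agent.H37.Amalgam.Cert.DagTwoTwenty
import Cfsg.Agent.H37.Amalgam.Cert.DagTriv
import Cfsg.Agent.H37.Amalgam.Cert.DagTrivT
import Cfsg.Agent.H37.Amalgam.Cert.TabThirteen
import Cfsg.Agent.H37.Amalgam.Cert.TabTwoTwenty
import Cfsg.Agent.H23.GL23.PlaneSL
import Cfsg.Agent.H28.M12.ColumnsMain
import Cfsg.Agent.H79.MTwelve.Final
import Cfsg.Prelude.Def_Spor_Mathieu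
import Cfsg.Prelude.Def_Sporadic

/-!
The completions of the amalgam: `L₃(3)` and `M₁₂`.
-/

set_option autoImplicit false
set_option maxRecDepth 100000

namespace Cfsg.Agent.H37.Amalgam

open Cfsg.Agent.H45 (evalW linv tget Hyp)

variable {G : Type*} [Group G] {A B : Subgroup G} {g : Fin 7 → G}

namespace Amal

theorem dag_mem (h : Amal A B g) {rels : List (List ℕ)} {w0 : List (Fin 7)}
    (hR : rels.all (fun r => okRel r || decide (r = w0.map Fin.val)) = true)
    (h0 : (w0.map g).prod = 1) {F : List (List ℕ)} {nd tot final : ℕ}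
    {segs : List (List (List (ℕ × ℕ)) × ℕ)} {tw : List ℕ}
    (hs0 : Dag.startOK ⟨14, invl, [], rels, []⟩ F [0, 1, 2, 3, 4, 5] nd = true)
    (hs : Dag.Segs ⟨14, invl, [], rels, []⟩ F (nd + 6) segs tot)
    (hf : Dag.finalOK ⟨14, invl, [], rels, []⟩ F tot final tw = true) :
    evalW (eL g) tw ∈ A := by
  refine Dag.segs_sound (H := A) ⟨fun l => eL_linv g l, h.relators hR h0, by simp⟩ ?_ ?_ ?_
    hs0 hs hf
  · intro l hl
    have := linv_lt l hl
    show linv invl l ≠ 255
    omega
  · intro l hl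
    refine h.eL_mem (Or.inl ?_)
    simp only [List.mem_cons, List.not_mem_nil, or_false] at hl
    omega
  · intro l hl
    simp only [List.mem_cons, List.not_mem_nil, or_false] at hl
    omega

theorem case_two (h : Amal A B g) (e : ((relWord 2).map g).prod = 1) : False := by
  have := h.dag_mem (rels := DagTriv.rels) (w0 := relWord 2) (by decide +kernel) e
    DagTriv.start_ok DagTriv.segs_ok DagTriv.final_ok
  rw [DagTriv.word, evalW, List.map_cons, List.map_nil, List.prod_cons, List.prod_nil, mul_one]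
    at this
  exact h.k_not_mem this

theorem case_three (h : Amal A B g) (e : ((relWord 3).map g).prod = 1) : False := by
  have := h.dag_mem (rels := DagTrivT.rels) (w0 := relWord 3) (by decide +kernel) e
    DagTrivT.start_ok DagTrivT.segs_ok DagTrivT.final_ok
  rw [DagTrivT.word, evalW, List.map_cons, List.map_nil, List.prod_cons, List.prod_nil, mul_one]
    at this
  exact h.k_not_mem this

theorem sub_mem (h : Amal A B g) {tw : List ℕ} (htw : evalW (eL g) tw ∈ A) :
    ∀ w ∈ ([[0], [1], [2], [3], [4], [5], tw] : List (List ℕ)), evalW (eL g) w ∈ A := by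
  intro w hw
  simp only [List.mem_cons, List.not_mem_nil, or_false] at hw
  rcases hw with rfl | rfl | rfl | rfl | rfl | rfl | rfl
  all_goals first | exact htw | (simp [evalW]; exact h.eL_mem (Or.inl (by omega)))

theorem closure_letters (h : Amal A B g) : Subgroup.closure (Set.range g) = ⊤ := by
  refine eq_top_iff.2 (h.gen ▸ sup_le (fun a ha => ?_) (fun a ha => ?_))
  · obtain ⟨v, -, -, rfl⟩ := h.rA.surj a ha
    refine Subgroup.list_prod_mem _ fun b hb => ?_
    obtain ⟨j, -, rfl⟩ := List.mem_map.1 hb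
    exact Subgroup.subset_closure ⟨j, rfl⟩
  · obtain ⟨v, -, -, rfl⟩ := h.rB.surj a ha
    refine Subgroup.list_prod_mem _ fun b hb => ?_
    obtain ⟨j, -, rfl⟩ := List.mem_map.1 hb
    exact Subgroup.subset_closure ⟨j, rfl⟩

end Amal

/-- points of the plane attached to the thirteen cosets -/
def plane : Equiv.Perm (Fin 13) where
  toFun i := ⟨([0, 1, 2, 3, 12, 6, 9, 7, 10, 11, 5, 4, 8] : List ℕ).getD i 0 % 13, Nat.mod_lt _ (by norm_num)⟩
  invFun i := ⟨([0, 1, 2, 3, 11, 10, 5, 7, 12, 6, 8, 9, 4] : List ℕ).getD i 0 % 13, Nat.mod_lt _ (by norm_num)⟩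
  left_inv := by unfold Function.LeftInverse; decide +kernel
  right_inv := by unfold Function.RightInverse Function.LeftInverse; decide +kernel

/-- a generator on the plane -/
def planeMove (j : Fin 7) (p : Fin 13) : Fin 13 :=
  plane ⟨tget TabThirteen.cols (plane.symm p : ℕ) (linv invl j) % 13, Nat.mod_lt _ (by norm_num)⟩

theorem planeMove_col : ∀ j : Fin 7, ∀ p q r : Fin 13,
    H23.GL23.PlaneModel.col (planeMove j p) (planeMove j q) (planeMove j r) ↔
      H23.GL23.PlaneModel.col p q r := by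
  decide +kernel

namespace Amal

theorem case_zero [Finite G] (h : Amal A B g) (e : ((relWord 0).map g).prod = 1) :
    Nonempty (G ≃* Matrix.ProjectiveSpecialLinearGroup (Fin 3) (ZMod 3)) := by
  have hmem := h.dag_mem (rels := DagThirteen.rels) (w0 := relWord 0) (by decide +kernel) e
    DagThirteen.start_ok DagThirteen.segs_ok DagThirteen.final_ok
  obtain ⟨φ, hinj, hcard, hφ, -⟩ := h.action (R := TabThirteen.rels) (S := TabThirteen.subs)
    ⟨fun l => eL_linv g l, h.relators (w0 := relWord 0) TabThirteen.rels_ok e, h.sub_mem hmem⟩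
    TabThirteen.close_ok TabThirteen.cols_ok TabThirteen.sep_ok (by norm_num) TabThirteen.move_ok
  let f : G →* Equiv.Perm (Fin 13) := plane.permCongrHom.toMonoidHom.comp φ
  refine H23.GL23.PlaneModel.nonempty_equiv f
    (fun a b e => hinj (plane.permCongrHom.injective e)) (fun a => ?_) (by rw [hcard])
  have key : Subgroup.closure (Set.range g) ≤ H23.GL23.PlaneModel.Aut.comap f := by
    rw [Subgroup.closure_le]
    rintro _ ⟨j, rfl⟩
    rw [SetLike.mem_coe, Subgroup.mem_comap, H23.GL23.PlaneModel.mem_Aut]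
    have hv : ∀ p, f (g j) p = planeMove j p := fun p => by
      show plane (φ (g j) (plane.symm p)) = planeMove j p
      refine congrArg plane (Fin.ext ?_)
      have := hφ j (by omega) (plane.symm p)
      rw [show eL g (j : ℕ) = g j from dif_pos j.isLt] at this
      show _ = tget TabThirteen.cols (plane.symm p : ℕ) (linv invl j) % 13
      rw [← this, Nat.mod_eq_of_lt (φ (g j) (plane.symm p)).isLt]
    intro p q r
    rw [hv, hv, hv]
    exact planeMove_col j p q r
  exact key (h.closure_letters ▸ Subgroup.mem_top a)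

theorem eq_top_of_z [Finite G] (h : Amal A B g) (N : Subgroup G) (hN : N.Normal) (hz : g 0 ∈ N) :
    N = ⊤ := by
  have conjmem : ∀ a b c : G, a ∈ N → b * a = c * b → c ∈ N := fun a b c ha e => by
    have := hN.conj_mem a ha b
    rwa [e, mul_inv_cancel_right] at this
  have hq : g 1 ∈ N := conjmem _ (g 5) _ hz (by
    simpa using h.sideA (w := [5, 0]) (w' := [1, 5]) rfl rfl (by decide +kernel))
  have hx : g 2 ∈ N := conjmem _ (g 6) _ hz (by
    simpa using h.sideB (w := [6, 0]) (w' := [2, 6]) rfl rfl (by decide +kernel))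
  have hi : g 5 ∈ N := by
    have e := h.sideA (w := [2, 2, 5, 2, 5, 5, 5, 5, 2, 5, 5, 5, 2, 2]) (w' := [5]) rfl rfl
      (by decide +kernel)
    simp only [List.map_cons, List.map_nil, List.prod_cons, List.prod_nil, mul_one] at e
    have e4 : g 5 * g 5 * g 5 = (g 5)⁻¹ := eq_inv_of_mul_eq_one_left (by
      simpa [mul_assoc] using h.sideA (w := [5, 5, 5, 5]) (w' := []) rfl rfl (by decide +kernel))
    rw [← e]
    have hy := hN.conj_mem _ hx (g 5)
    rw [← e4] at hy
    have := N.mul_mem (N.mul_mem (N.mul_mem (N.mul_mem hx hx) hy) hy) (N.mul_mem hx hx)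
    simpa [mul_assoc] using this
  have hk : g 6 ∈ N := by
    have e := h.sideB (w := [1, 6, 1, 6, 6, 6, 1]) (w' := [6]) rfl rfl (by decide +kernel)
    simp only [List.map_cons, List.map_nil, List.prod_cons, List.prod_nil, mul_one] at e
    have e4 : g 6 * g 6 * g 6 = (g 6)⁻¹ := eq_inv_of_mul_eq_one_left (by
      simpa [mul_assoc] using h.sideB (w := [6, 6, 6, 6]) (w' := []) rfl rfl (by decide +kernel))
    rw [← e]
    have hy := hN.conj_mem _ hq (g 6)
    rw [← e4] at hy
    have := N.mul_mem (N.mul_mem hq hy) hq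
    simpa [mul_assoc] using this
  have h3 : g 3 ∈ N := by
    rw [show g 3 = g 6 * g 6 by
      simpa using h.sideB (w := [3]) (w' := [6, 6]) rfl rfl (by decide +kernel)]
    exact N.mul_mem hk hk
  have h4 : g 4 ∈ N := by
    rw [show g 4 = g 3 * (g 5 * g 5) by
      simpa using h.sideA (w := [4]) (w' := [3, 5, 5]) rfl rfl (by decide +kernel)]
    exact N.mul_mem h3 (N.mul_mem hi hi)
  refine eq_top_iff.2 (h.closure_letters ▸ (Subgroup.closure_le _).2 ?_)
  rintro _ ⟨j, rfl⟩
  fin_cases j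
  exacts [hz, hq, hx, h3, h4, hi, hk]

theorem case_one [Finite G] (h : Amal A B g) (e : ((relWord 1).map g).prod = 1) :
    Cfsg.Spor.IsoM12 G := by
  have hmem := h.dag_mem (rels := DagTwoTwenty.rels) (w0 := relWord 1) (by decide +kernel) e
    DagTwoTwenty.start_ok DagTwoTwenty.segs_ok DagTwoTwenty.final_ok
  obtain ⟨φ, -, hcard, -, hmax⟩ := h.action (R := TabTwoTwenty.rels) (S := TabTwoTwenty.subs)
    ⟨fun l => eL_linv g l, h.relators (w0 := relWord 1) TabTwoTwenty.rels_ok e, h.sub_mem hmem⟩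
    TabTwoTwenty.close_ok TabTwoTwenty.cols_ok TabTwoTwenty.sep_ok (by norm_num)
    TabTwoTwenty.move_ok
  have hz1 : g 0 ≠ 1 := by
    simpa using h.rA.ne (w := [0]) (w' := []) rfl rfl (by decide +kernel)
  have : Nontrivial G := ⟨_, _, hz1⟩
  have hsimp : IsSimpleGroup G := by
    refine ⟨fun N hN => ?_⟩
    by_cases hbot : N = ⊥
    · exact Or.inl hbot
    refine Or.inr (h.eq_top_of_z N hN ?_)
    by_contra hzN
    have htriv : ∀ a ∈ N, a ∈ A → a = 1 := fun a haN haA => by
      by_contra ha1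
      exact hzN (h.minA N hN a haA ha1 haN)
    rcases hmax (N ⊔ A) le_sup_right with e1 | e1
    · refine hbot ((Subgroup.eq_bot_iff_forall _).2 fun a ha => htriv a ha ?_)
      exact e1 ▸ Subgroup.mem_sup_left ha
    have hk : g 6 ∈ N ⊔ A := e1 ▸ Subgroup.mem_top _
    obtain ⟨n, hn, a, ha, hna⟩ := Subgroup.mem_sup_of_normal_left.1 hk
    have hconj : n⁻¹ * g 0 * n * (g 0)⁻¹ ∈ A := by
      have ek : (g 6)⁻¹ * g 0 * g 6 = g 2 * g 2 := by
        rw [mul_assoc, inv_mul_eq_iff_eq_mul]
        simpa using h.sideB (w := [0, 6]) (w' := [6, 2, 2]) rfl rfl (by decide +kernel)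
      have hx2 : g 2 * g 2 ∈ A := mul_mem (h.rA.mem 2 rfl) (h.rA.mem 2 rfl)
      rw [show n = g 6 * a⁻¹ by rw [← hna, mul_inv_cancel_right],
        show (g 6 * a⁻¹)⁻¹ * g 0 * (g 6 * a⁻¹) = a * ((g 6)⁻¹ * g 0 * g 6) * a⁻¹ by group, ek]
      exact mul_mem (mul_mem (mul_mem ha hx2) (inv_mem ha)) (inv_mem (h.rA.mem 0 rfl))
    have hN' : n⁻¹ * g 0 * n * (g 0)⁻¹ ∈ N := by
      rw [show n⁻¹ * g 0 * n * (g 0)⁻¹ = n⁻¹ * (g 0 * n * (g 0)⁻¹) by group]
      exact N.mul_mem (N.inv_mem hn) (hN.conj_mem n hn _)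
    have e2 := htriv _ hN' hconj
    rw [mul_inv_eq_one, mul_assoc, inv_mul_eq_iff_eq_mul] at e2
    have hn1 := htriv n hn (h.cenz n e2.symm)
    rw [hn1, one_mul] at hna
    exact h.notk (hna ▸ ha)
  have hM : Cfsg.IsM12 G := ⟨hsimp, by rw [hcard]⟩
  exact (H79.MTwelve.nonempty_mulEquiv_of_columns hM (H28.M12.exists_columns hM)).1

end Amal

end Cfsg.Agent.H37.Amalgam
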