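import Cfsg.Agent.H37.Amalgam.Side

/-!
The seven generators of the amalgam and their tables on the two sides.
Letters: `z q x t₁ t₂ i k`.
-/

set_option autoImplicit false

namespace Cfsg.Agent.H37.Amalgam

variable {G : Type*} [Group G]

/-- tables on the first side -/
def mA : Fin 7 → Fin 9 → Fin 9
  | 0 => fun p => padd p (mkPt 2 0)
  | 1 => fun p => padd p (mkPt 0 2)
  | 2 => lin (mkPt 1 0) (mkPt 1 1)
  | 3 => lin (mkPt 2 0) (mkPt 0 1)
  | 4 => lin (mkPt 1 0) (mkPt 0 2)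
  | 5 => lin (mkPt 0 1) (mkPt 2 0)
  | 6 => id

/-- tables on the second side -/
def mB : Fin 7 → Fin 9 → Fin 9
  | 0 => fun p => padd p (mkPt 2 0)
  | 1 => lin (mkPt 1 0) (mkPt 2 1)
  | 2 => fun p => padd p (mkPt 0 2)
  | 3 => lin (mkPt 2 0) (mkPt 0 2)
  | 4 => lin (mkPt 1 0) (mkPt 0 2)
  | 5 => id
  | 6 => lin (mkPt 0 1) (mkPt 2 0)

/-- letters of the first side -/
def okA (j : Fin 7) : Bool := decide (j ≠ 6)

/-- letters of the second side -/
def okB (j : Fin 7) : Bool := decide (j ≠ 5)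

/-- value of a word on a point -/
def ev (m : Fin 7 → Fin 9 → Fin 9) : List (Fin 7) → Fin 9 → Fin 9
  | [], p => p
  | a :: w, p => m a (ev m w p)

/-- linear words on the first side -/
def wsA : List (List (Fin 7)) := [
  [], [2], [3], [4], [5], [2, 2], [2, 3], [2, 4], [2, 5], [3, 2], [3, 4], [3, 5], [4, 2], [4, 5], 
  [5, 2], [2, 2, 5], [2, 3, 4], [2, 3, 5], [2, 4, 5], [2, 5, 2], [3, 2, 4], [3, 2, 5], [3, 4, 5], 
  [3, 5, 2], [4, 2, 5], [4, 5, 2], [5, 2, 2], [5, 2, 3], [5, 2, 4], [5, 2, 5], [2, 2, 5, 2], 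
  [2, 3, 4, 5], [2, 3, 5, 2], [2, 4, 5, 2], [2, 5, 2, 2], [2, 5, 2, 3], [2, 5, 2, 4], 
  [3, 2, 4, 5], [3, 2, 5, 2], [3, 4, 5, 2], [3, 5, 2, 3], [4, 2, 5, 2], [5, 2, 2, 5], 
  [2, 2, 5, 2, 3], [2, 2, 5, 2, 4], [2, 3, 5, 2, 3], [2, 5, 2, 2, 5], [3, 2, 5, 2, 3]]

/-- linear words on the second side -/
def wsB : List (List (Fin 7)) := [
  [], [1], [3], [4], [6], [1, 1], [1, 3], [1, 4], [1, 6], [3, 4], [3, 6], [4, 1], [4, 6], [6, 1], 
  [6, 4], [1, 1, 3], [1, 1, 6], [1, 3, 4], [1, 3, 6], [1, 4, 6], [1, 6, 1], [1, 6, 4], [3, 4, 1], 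
  [3, 6, 1], [4, 1, 6], [4, 6, 1], [6, 1, 1], [6, 1, 4], [6, 1, 6], [6, 4, 1], [1, 1, 3, 6], 
  [1, 1, 6, 1], [1, 1, 6, 4], [1, 3, 6, 1], [1, 4, 6, 1], [1, 6, 1, 1], [1, 6, 1, 4], 
  [1, 6, 1, 6], [1, 6, 4, 1], [3, 6, 1, 4], [3, 6, 1, 6], [4, 1, 6, 1], [6, 1, 4, 6], 
  [6, 4, 1, 6], [1, 1, 3, 6, 1], [1, 1, 6, 1, 4], [1, 1, 6, 1, 6], [1, 6, 4, 1, 6]]

/-- all words of one side -/
def allW (iz iq : Fin 7) (ws : List (List (Fin 7))) : List (List (Fin 7)) :=
  (List.finRange 9).flatMap fun j => ws.map fun w =>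
    List.replicate (cx j) iz ++ List.replicate (cy j) iq ++ w

/-- A subgroup described by tables on nine points. -/
structure Reps (A : Subgroup G) (g : Fin 7 → G) (ok : Fin 7 → Bool)
    (m : Fin 7 → Fin 9 → Fin 9) (ws : List (List (Fin 7))) : Prop where
  mem : ∀ j, ok j = true → g j ∈ A
  eq_iff : ∀ w w' : List (Fin 7), w.all ok = true → w'.all ok = true →
    ((w.map g).prod = (w'.map g).prod ↔ ∀ p, ev m w p = ev m w' p)
  surj : ∀ a ∈ A, ∃ w ∈ ws, w.all ok = true ∧ a = (w.map g).prod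

theorem Reps.rel {A : Subgroup G} {g ok m ws} (h : Reps A g ok m ws) {w w' : List (Fin 7)}
    (hw : w.all ok = true) (hw' : w'.all ok = true) (he : ∀ p, ev m w p = ev m w' p) :
    (w.map g).prod = (w'.map g).prod := (h.eq_iff w w' hw hw').2 he

theorem Reps.one {A : Subgroup G} {g ok m ws} (h : Reps A g ok m ws) {w : List (Fin 7)}
    (hw : w.all ok = true) (he : ∀ p, ev m w p = p) : (w.map g).prod = 1 :=
  h.rel (w' := []) hw rfl he

theorem Reps.ne {A : Subgroup G} {g ok m ws} (h : Reps A g ok m ws) {w w' : List (Fin 7)}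
    (hw : w.all ok = true) (hw' : w'.all ok = true) (he : ¬ ∀ p, ev m w p = ev m w' p) :
    (w.map g).prod ≠ (w'.map g).prod := fun e => he ((h.eq_iff w w' hw hw').1 e)

theorem Reps.prod_mem {A : Subgroup G} {g ok m ws} (h : Reps A g ok m ws) {w : List (Fin 7)}
    (hw : w.all ok = true) : (w.map g).prod ∈ A := by
  refine A.list_prod_mem fun a ha => ?_
  obtain ⟨j, hj, rfl⟩ := List.mem_map.1 ha
  exact h.mem j (List.all_eq_true.1 hw j hj)

namespace Side

variable {A Q : Subgroup G} {t z q : G}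

theorem perm_word (h : Side A Q t z q) {g : Fin 7 → G} {ok : Fin 7 → Bool}
    {m : Fin 7 → Fin 9 → Fin 9} (hmem : ∀ j, ok j = true → g j ∈ A)
    (hm : ∀ j (hj : ok j = true) (p : Fin 9), h.perm ⟨g j, hmem j hj⟩ p = m j p) :
    ∀ (w : List (Fin 7)), w.all ok = true → ∃ hw : (w.map g).prod ∈ A,
      ∀ p, h.perm ⟨_, hw⟩ p = ev m w p := by
  intro w
  induction w with
  | nil => exact fun _ => ⟨by simp, fun p => by
      show h.perm ⟨1, _⟩ p = p
      rw [show (⟨1, _⟩ : A) = 1 from rfl, map_one]; rfl⟩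
  | cons a w ih =>
    intro hw
    rw [List.all_cons, Bool.and_eq_true] at hw
    obtain ⟨hw', e⟩ := ih hw.2
    refine ⟨by rw [List.map_cons, List.prod_cons]; exact mul_mem (hmem a hw.1) hw', fun p => ?_⟩
    show h.perm (⟨g a, hmem a hw.1⟩ * ⟨_, hw'⟩ : A) p = _
    rw [map_mul, Equiv.Perm.mul_apply, e, hm a hw.1, ev]

/-- The tables of a side describe it. -/
theorem reps (h : Side A Q t z q) {g : Fin 7 → G} {ok : Fin 7 → Bool}
    {m : Fin 7 → Fin 9 → Fin 9} {iz iq : Fin 7} {ws : List (List (Fin 7))}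
    (hgz : g iz = z) (hgq : g iq = q) (hiz : ok iz = true) (hiq : ok iq = true)
    (hmem : ∀ j, ok j = true → g j ∈ A)
    (hm : ∀ j (hj : ok j = true) (p : Fin 9), h.perm ⟨g j, hmem j hj⟩ p = m j p)
    (hws : ws.all (fun w => w.all ok) = true)
    (hlin : ∀ u v : Fin 9, indep u v = true →
      (ws.any fun w => (List.finRange 9).all fun p => decide (ev m w p = lin u v p)) = true) :
    Reps A g ok m (allW iz iq ws) := by
  have hp := h.perm_word hmem hm
  refine ⟨hmem, fun w w' hw hw' => ⟨fun e p => ?_, fun e => ?_⟩, fun a ha => ?_⟩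
  · obtain ⟨h1, e1⟩ := hp w hw
    obtain ⟨h2, e2⟩ := hp w' hw'
    rw [← e1 p, ← e2 p]
    congr 3
  · obtain ⟨h1, e1⟩ := hp w hw
    obtain ⟨h2, e2⟩ := hp w' hw'
    exact h.ext h1 h2 fun p => (e1 p).trans ((e p).trans (e2 p).symm)
  · set s := a * t * a⁻¹ * t⁻¹ with hs
    have hsQ : s ∈ Q := h.transl a ha
    set r := s * s with hr
    have hrQ : r ∈ Q := mul_mem hsQ hsQ
    obtain ⟨j, hj⟩ := h.span _ hrQ
    set l := r⁻¹ * a with hl
    have hlA : l ∈ A := mul_mem (inv_mem (h.le hrQ)) ha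
    have hlt : l * t = t * l := by
      have e1 : a * t = s * t * a := by rw [hs]; group
      have e2 : t * r⁻¹ = r * t := by
        have := h.inv r⁻¹ (inv_mem hrQ)
        rw [inv_inv, mul_inv_eq_iff_eq_mul] at this
        exact this
      have e3 : r⁻¹ * s = r := by
        have h3 : s * s * s = 1 := by
          obtain ⟨i, hi⟩ := h.span _ hsQ
          rw [show s = pt z q i from hi, ← h.pt_padd, ← h.pt_padd, h.pt_eq_one_iff]
          clear hi; revert i; decide +kernel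
        rw [hr, inv_mul_eq_iff_eq_mul, ← mul_assoc]
        conv_rhs => rw [h3, one_mul]
      calc l * t = r⁻¹ * (a * t) := by rw [hl, mul_assoc]
        _ = (r⁻¹ * s) * t * a := by rw [e1]; group
        _ = (t * r⁻¹) * a := by rw [e3, e2]
        _ = t * l := by rw [hl, mul_assoc]
    have hlz : l * z * l⁻¹ ∈ Q := h.norm l hlA z h.zmem
    obtain ⟨u, hu⟩ := h.span _ hlz
    obtain ⟨v, hv⟩ := h.span _ (h.norm l hlA q h.qmem)
    have hind : indep u v = true := by
      rw [indep_iff]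
      intro i hi
      refine h.pt_eq_one_iff.1 ?_
      have := h.conj_pt hu hv i
      rw [hi, h.pt_eq_one_iff.2 rfl] at this
      exact conj_eq_one_iff.1 this
    obtain ⟨w, hw, hwe⟩ := List.any_eq_true.1 (hlin u v hind)
    rw [List.all_eq_true] at hwe
    have hwok : w.all ok = true := List.all_eq_true.1 hws w hw
    obtain ⟨h1, e1⟩ := hp w hwok
    have el : l = (w.map g).prod := h.ext hlA h1 fun p => by
      rw [h.perm_lin hlA hlt hu hv, e1]
      exact (of_decide_eq_true (hwe p (List.mem_finRange p))).symm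
    refine ⟨List.replicate (cx j) iz ++ List.replicate (cy j) iq ++ w,
      List.mem_flatMap.2 ⟨j, List.mem_finRange j, List.mem_map.2 ⟨w, hw, rfl⟩⟩, ?_, ?_⟩
    · simp only [List.all_append, Bool.and_eq_true, hwok, and_true]
      constructor <;> simp [hiz, hiq]
    · simp only [List.map_append, List.prod_append, List.map_replicate, List.prod_replicate,
        hgz, hgq]
      rw [← el, ← hj, hl, mul_inv_cancel_left]

end Side

end Cfsg.Agent.H37.Amalgam
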