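import Mathlib

/-!
One side of a `GL(2,3)`-amalgam: a group containing a self-centralising elementary subgroup of order
nine with an involution inverting it, seen through its action on the nine conjugates of the involution.
-/

set_option autoImplicit false

namespace Cfsg.Agent.H37.Amalgam

open Equiv

variable {G : Type*} [Group G]

/-- coordinates of a point -/
def cx (j : Fin 9) : ℕ := j.val / 3

/-- coordinates of a point -/
def cy (j : Fin 9) : ℕ := j.val % 3

/-- the point with given coordinates -/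
def mkPt (a b : ℕ) : Fin 9 := ⟨3 * (a % 3) + b % 3, by omega⟩

/-- sum of points -/
def padd (i j : Fin 9) : Fin 9 := mkPt (cx i + cx j) (cy i + cy j)

/-- linear combination of two points -/
def lin (u v : Fin 9) (j : Fin 9) : Fin 9 :=
  mkPt (cx j * cx u + cy j * cx v) (cx j * cy u + cy j * cy v)

/-- two points are independent -/
def indep (u v : Fin 9) : Bool :=
  (List.finRange 9).all fun j => decide (lin u v j = 0 → j = 0)

theorem indep_count :
    (Finset.univ.filter fun p : Fin 9 × Fin 9 => indep p.1 p.2 = true).card = 48 := by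
  decide +kernel

theorem mkPt_cxy : ∀ j : Fin 9, mkPt (cx j) (cy j) = j := by decide +kernel

theorem indep_iff {u v : Fin 9} : indep u v = true ↔ ∀ j, lin u v j = 0 → j = 0 := by
  simp [indep, or_iff_not_imp_left]

/-- one side of the amalgam -/
structure Side (A Q : Subgroup G) (t z q : G) : Prop where
  le : Q ≤ A
  tmem : t ∈ A
  tsq : t * t = 1
  tne : t ≠ 1
  zmem : z ∈ Q
  qmem : q ∈ Q
  z3 : z * z * z = 1
  q3 : q * q * q = 1
  zq : z * q = q * z
  span : ∀ r ∈ Q, ∃ j : Fin 9, r = z ^ cx j * q ^ cy j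
  indep0 : ∀ j : Fin 9, z ^ cx j * q ^ cy j = 1 → j = 0
  inv : ∀ r ∈ Q, t * r * t⁻¹ = r⁻¹
  norm : ∀ a ∈ A, ∀ r ∈ Q, a * r * a⁻¹ ∈ Q
  centr : ∀ a ∈ A, a * z = z * a → a * q = q * a → a ∈ Q
  transl : ∀ a ∈ A, a * t * a⁻¹ * t⁻¹ ∈ Q
  full : ∀ u v : Fin 9, indep u v = true → ∃ a ∈ A, a * t = t * a ∧
    a * z * a⁻¹ = z ^ cx u * q ^ cy u ∧ a * q * a⁻¹ = z ^ cx v * q ^ cy v

namespace Side

variable {A Q : Subgroup G} {t z q : G}

/-- the element with given coordinates -/
def pt (z q : G) (j : Fin 9) : G := z ^ cx j * q ^ cy j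

variable (h : Side A Q t z q)
include h

theorem commute : Commute z q := h.zq

theorem zpow_mod (n : ℕ) : z ^ (n % 3) = z ^ n := by
  conv_rhs => rw [← Nat.div_add_mod n 3, pow_add, pow_mul, pow_succ, pow_two, h.z3, one_pow, one_mul]

theorem qpow_mod (n : ℕ) : q ^ (n % 3) = q ^ n := by
  conv_rhs => rw [← Nat.div_add_mod n 3, pow_add, pow_mul, pow_succ, pow_two, h.q3, one_pow, one_mul]

theorem pt_mk (a b : ℕ) : pt z q (mkPt a b) = z ^ a * q ^ b := by
  have h1 : cx (mkPt a b) = a % 3 := by show (3 * (a % 3) + b % 3) / 3 = a % 3; omega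
  have h2 : cy (mkPt a b) = b % 3 := by show (3 * (a % 3) + b % 3) % 3 = b % 3; omega
  rw [pt, h1, h2, h.zpow_mod, h.qpow_mod]

theorem pt_mem (j : Fin 9) : pt z q j ∈ Q := mul_mem (pow_mem h.zmem _) (pow_mem h.qmem _)

theorem pt_memA (j : Fin 9) : pt z q j ∈ A := h.le (h.pt_mem j)

theorem pt_padd (i j : Fin 9) : pt z q (padd i j) = pt z q i * pt z q j := by
  rw [padd, h.pt_mk, pow_add, pow_add, pt, pt, mul_assoc, mul_assoc,
    ← mul_assoc (q ^ cy i) (z ^ cx j), ((h.commute.symm.pow_left _).pow_right _).eq, mul_assoc]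

theorem pt_eq_one_iff {j : Fin 9} : pt z q j = 1 ↔ j = 0 :=
  ⟨h.indep0 j, fun e => by rw [e]; simp [pt, cx, cy]⟩

theorem pt_inj : Function.Injective (pt z q) := fun i j e => by
  have hh : pt z q (padd i (mkPt (2 * cx j) (2 * cy j))) = 1 := by
    rw [h.pt_padd, e, ← h.pt_padd]
    have : ∀ j : Fin 9, padd j (mkPt (2 * cx j) (2 * cy j)) = 0 := by decide +kernel
    rw [this, h.pt_eq_one_iff.2 rfl]
  have : ∀ i j : Fin 9, padd i (mkPt (2 * cx j) (2 * cy j)) = 0 → i = j := by decide +kernel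
  exact this i j (h.pt_eq_one_iff.1 hh)

theorem conj_pt {a : G} {u v : Fin 9} (hu : a * z * a⁻¹ = pt z q u) (hv : a * q * a⁻¹ = pt z q v)
    (j : Fin 9) : a * pt z q j * a⁻¹ = pt z q (lin u v j) := by
  rw [lin, h.pt_mk]
  conv_lhs => rw [pt, ← MulAut.conj_apply, map_mul, map_pow, map_pow, MulAut.conj_apply,
    MulAut.conj_apply, hu, hv, pt, pt]
  have c := h.commute
  rw [(c.pow_pow _ _).mul_pow, (c.pow_pow _ _).mul_pow, ← pow_mul, ← pow_mul, ← pow_mul, ← pow_mul,
    mul_assoc, ← mul_assoc (q ^ _) (z ^ _), ((c.symm.pow_left _).pow_right _).eq, mul_assoc,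
    ← pow_add, ← mul_assoc, ← pow_add]
  congr 2 <;> ring

theorem exists_act {a : G} (ha : a ∈ A) (j : Fin 9) :
    ∃ j' : Fin 9, a * (pt z q j * t) * a⁻¹ = pt z q j' * t := by
  have h1 := Q.mul_mem (h.norm a ha _ (h.pt_mem j)) (h.transl a ha)
  obtain ⟨j', hj'⟩ := h.span _ h1
  refine ⟨j', ?_⟩
  show _ = z ^ cx j' * q ^ cy j' * t
  rw [← hj']
  group

/-- the image of a point -/
noncomputable def act {a : G} (ha : a ∈ A) (j : Fin 9) : Fin 9 := (h.exists_act ha j).choose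

theorem act_spec {a : G} (ha : a ∈ A) (j : Fin 9) :
    a * (pt z q j * t) * a⁻¹ = pt z q (h.act ha j) * t := (h.exists_act ha j).choose_spec

theorem act_eq {a : G} (ha : a ∈ A) {j k : Fin 9} (e : a * (pt z q j * t) * a⁻¹ = pt z q k * t) :
    h.act ha j = k :=
  h.pt_inj (mul_right_cancel ((h.act_spec ha j).symm.trans e))

/-- the action on the conjugates of `t` -/
noncomputable def perm : A →* Perm (Fin 9) where
  toFun a :=
    { toFun := h.act a.2
      invFun := h.act (inv_mem a.2)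
      left_inv := fun j => h.act_eq (inv_mem a.2) (by rw [← h.act_spec a.2 j]; group)
      right_inv := fun j => h.act_eq a.2 (by rw [← h.act_spec (inv_mem a.2) j]; group) }
  map_one' := by
    ext j : 1
    exact h.act_eq (one_mem A) (by simp)
  map_mul' a b := by
    ext j : 1
    refine h.act_eq (mul_mem a.2 b.2) ?_
    show (a : G) * b * (pt z q j * t) * ((a : G) * b)⁻¹ = pt z q (h.act a.2 (h.act b.2 j)) * t
    rw [← h.act_spec a.2, ← h.act_spec b.2]
    group

theorem perm_apply (a : A) (j : Fin 9) : h.perm a j = h.act a.2 j := rfl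

theorem perm_inj : Function.Injective h.perm := by
  rw [← MonoidHom.ker_eq_bot_iff, eq_bot_iff]
  intro a ha
  have hf : ∀ j, (a : G) * (pt z q j * t) * (a : G)⁻¹ = pt z q j * t := fun j => by
    conv_rhs => rw [← show h.act a.2 j = j from by rw [← h.perm_apply, MonoidHom.mem_ker.1 ha]; rfl]
    exact h.act_spec a.2 j
  have h0 : (a : G) * t * (a : G)⁻¹ = t := by simpa [h.pt_eq_one_iff.2 rfl] using hf 0
  have hc : ∀ j, (a : G) * pt z q j * (a : G)⁻¹ = pt z q j := fun j => by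
    have := hf j
    have e : (a : G) * (pt z q j * t) * (a : G)⁻¹ =
        ((a : G) * pt z q j * (a : G)⁻¹) * ((a : G) * t * (a : G)⁻¹) := by group
    rw [e, h0] at this
    exact mul_right_cancel this
  have hz : (a : G) * z = z * a := by
    have := hc (mkPt 1 0); rw [h.pt_mk] at this; simpa [mul_inv_eq_iff_eq_mul] using this
  have hq : (a : G) * q = q * a := by
    have := hc (mkPt 0 1); rw [h.pt_mk] at this; simpa [mul_inv_eq_iff_eq_mul] using this
  have haQ := h.centr a a.2 hz hq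
  obtain ⟨j, hj⟩ := h.span _ haQ
  have h1 : (a : G)⁻¹ = a := by
    rw [← h.inv _ haQ]
    have : t * (a : G) * t⁻¹ = a := by
      rw [mul_inv_eq_iff_eq_mul]
      exact (mul_inv_eq_iff_eq_mul.1 h0).symm
    exact this
  have h2 : (a : G) * a = 1 := by
    conv_lhs => arg 2; rw [← h1]
    exact mul_inv_cancel _
  rw [hj, ← pt, ← h.pt_padd, h.pt_eq_one_iff] at h2
  have hdec : ∀ j : Fin 9, padd j j = 0 → j = 0 := by decide +kernel
  refine Subgroup.mem_bot.2 (Subtype.ext ?_)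
  rw [hj, ← pt, hdec j h2]
  exact h.pt_eq_one_iff.2 rfl

theorem ext {a b : G} (ha : a ∈ A) (hb : b ∈ A) (e : ∀ j, h.perm ⟨a, ha⟩ j = h.perm ⟨b, hb⟩ j) :
    a = b :=
  congrArg Subtype.val (h.perm_inj (Equiv.ext e))

/-- an element commuting with `t` acts linearly -/
theorem perm_lin {a : G} (ha : a ∈ A) (ht : a * t = t * a) {u v : Fin 9}
    (hu : a * z * a⁻¹ = pt z q u) (hv : a * q * a⁻¹ = pt z q v) (j : Fin 9) :
    h.perm ⟨a, ha⟩ j = lin u v j := by
  refine h.act_eq (Subtype.prop _) ?_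
  rw [← h.conj_pt hu hv j]
  have : t = a * t * a⁻¹ := by rw [ht, mul_inv_cancel_right]
  conv_rhs => arg 2; rw [this]
  group

/-- an element of `Q` acts by a translation -/
theorem perm_transl (i j : Fin 9) : h.perm ⟨pt z q i, h.pt_memA i⟩ j = padd (padd j i) i := by
  refine h.act_eq (Subtype.prop _) ?_
  rw [h.pt_padd, h.pt_padd]
  have e : t * (pt z q i)⁻¹ = pt z q i * t := by
    have := h.inv _ (inv_mem (h.pt_mem i))
    rw [inv_inv, mul_inv_eq_iff_eq_mul] at this
    exact this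
  have c : pt z q i * pt z q j = pt z q j * pt z q i := by
    rw [← h.pt_padd, ← h.pt_padd]
    have : ∀ i j : Fin 9, padd i j = padd j i := by decide +kernel
    rw [this]
  calc pt z q i * (pt z q j * t) * (pt z q i)⁻¹
      = (pt z q i * pt z q j) * (t * (pt z q i)⁻¹) := by group
    _ = _ := by rw [e, c]; group

theorem perm_z (hz : z ∈ A) (j : Fin 9) : h.perm ⟨z, hz⟩ j = padd j (mkPt 2 0) := by
  have e : (⟨z, hz⟩ : A) = ⟨pt z q (mkPt 1 0), h.pt_memA _⟩ :=
    Subtype.ext (show z = pt z q (mkPt 1 0) by rw [h.pt_mk]; simp)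
  rw [e, h.perm_transl]
  revert j; decide +kernel

theorem perm_q (hq : q ∈ A) (j : Fin 9) : h.perm ⟨q, hq⟩ j = padd j (mkPt 0 2) := by
  have e : (⟨q, hq⟩ : A) = ⟨pt z q (mkPt 0 1), h.pt_memA _⟩ :=
    Subtype.ext (show q = pt z q (mkPt 0 1) by rw [h.pt_mk]; simp)
  rw [e, h.perm_transl]
  revert j; decide +kernel

end Side

/-- The basis of the normal subgroup and all its images, from counting data. -/
theorem exists_image [Finite G] {A Q : Subgroup G} {z q : G} (hQA : Q ≤ A)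
    (hA : Nat.card A = 432) (hQ : Nat.card Q = 9)
    (hn : ∀ a ∈ A, ∀ r ∈ Q, a * r * a⁻¹ ∈ Q)
    (hab : ∀ r ∈ Q, ∀ s ∈ Q, r * s = s * r) (h3 : ∀ r ∈ Q, r * r * r = 1)
    (hself : ∀ a ∈ A, (∀ r ∈ Q, a * r = r * a) → a ∈ Q)
    (hz : z ∈ Q) (hz1 : z ≠ 1) (hq : q ∈ Q) (hq1 : q ∉ Subgroup.zpowers z) :
    (∀ r ∈ Q, ∃ j : Fin 9, r = z ^ cx j * q ^ cy j) ∧
    (∀ j : Fin 9, z ^ cx j * q ^ cy j = 1 → j = 0) ∧
    (∀ a ∈ A, a * z = z * a → a * q = q * a → a ∈ Q) ∧
    ∀ u v : Fin 9, indep u v = true → ∃ a ∈ A,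
      a * z * a⁻¹ = z ^ cx u * q ^ cy u ∧ a * q * a⁻¹ = z ^ cx v * q ^ cy v := by
  classical
  have zq := hab z hz q hq
  have hcz : Commute z q := zq
  have hspan' : ∀ j : Fin 9, z ^ cx j * q ^ cy j = 1 → j = 0 := by
    intro j e
    have hqa : q ^ cy j ∈ Subgroup.zpowers z := by
      rw [eq_inv_of_mul_eq_one_right e]
      exact inv_mem (pow_mem (Subgroup.mem_zpowers z) _)
    have hy : cy j = 0 := by
      have h2 : cy j < 3 := Nat.mod_lt _ (by norm_num)
      by_contra hne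
      apply hq1
      obtain h' | h' : cy j = 1 ∨ cy j = 2 := by omega
      · simpa [h'] using hqa
      · rw [h'] at hqa
        have : q = (q ^ 2)⁻¹ := eq_inv_of_mul_eq_one_left (by rw [pow_two, ← mul_assoc]; exact h3 q hq)
        rw [this]
        exact inv_mem hqa
    have hx : cx j = 0 := by
      have h2 : cx j < 3 := by have := j.isLt; unfold cx; omega
      rw [hy, pow_zero, mul_one] at e
      by_contra hne
      apply hz1
      obtain h' | h' : cx j = 1 ∨ cx j = 2 := by omega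
      · simpa [h'] using e
      · rw [h', pow_two] at e
        have := h3 z hz
        rwa [e, one_mul] at this
    have := mkPt_cxy j
    rw [hx, hy] at this
    exact this.symm
  let F : Fin 9 → Q := fun j => ⟨z ^ cx j * q ^ cy j, mul_mem (pow_mem hz _) (pow_mem hq _)⟩
  have hFadd : ∀ i j : Fin 9, (F (padd i j) : G) = F i * F j := by
    intro i j
    have hzm : ∀ n, z ^ (n % 3) = z ^ n := fun n => by
      conv_rhs => rw [← Nat.div_add_mod n 3, pow_add, pow_mul, pow_succ, pow_two, h3 z hz, one_pow, one_mul]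
    have hqm : ∀ n, q ^ (n % 3) = q ^ n := fun n => by
      conv_rhs => rw [← Nat.div_add_mod n 3, pow_add, pow_mul, pow_succ, pow_two, h3 q hq, one_pow, one_mul]
    have h1 : cx (padd i j) = (cx i + cx j) % 3 := by
      show (3 * ((cx i + cx j) % 3) + (cy i + cy j) % 3) / 3 = _; omega
    have h2 : cy (padd i j) = (cy i + cy j) % 3 := by
      show (3 * ((cx i + cx j) % 3) + (cy i + cy j) % 3) % 3 = _; omega
    show z ^ cx (padd i j) * q ^ cy (padd i j) = z ^ cx i * q ^ cy i * (z ^ cx j * q ^ cy j)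
    rw [h1, h2, hzm, hqm, pow_add, pow_add, mul_assoc, mul_assoc, ← mul_assoc (q ^ cy i) (z ^ cx j),
      ((hcz.symm.pow_left _).pow_right _).eq, mul_assoc]
  have hFinj : Function.Injective F := by
    intro i j e
    have e0 : ∀ j : Fin 9, padd j (mkPt (2 * cx j) (2 * cy j)) = 0 := by decide +kernel
    have e1 : (F (padd i (mkPt (2 * cx j) (2 * cy j))) : G) = 1 := by
      rw [hFadd, e, ← hFadd, e0]
      simp [F, cx, cy]
    have e2 : ∀ i j : Fin 9, padd i (mkPt (2 * cx j) (2 * cy j)) = 0 → i = j := by decide +kernel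
    exact e2 i j (hspan' _ e1)
  have hFsurj : Function.Surjective F :=
    ((Nat.bijective_iff_injective_and_card F).2 ⟨hFinj, by rw [hQ, Nat.card_fin]⟩).2
  have hspan : ∀ r ∈ Q, ∃ j : Fin 9, r = z ^ cx j * q ^ cy j := fun r hr => by
    obtain ⟨j, hj⟩ := hFsurj ⟨r, hr⟩
    exact ⟨j, (congrArg Subtype.val hj).symm⟩
  have hcent : ∀ a ∈ A, a * z = z * a → a * q = q * a → a ∈ Q := by
    intro a ha h1 h2
    refine hself a ha fun r hr => ?_
    obtain ⟨j, rfl⟩ := hspan r hr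
    exact ((Commute.pow_right h1 _).mul_right (Commute.pow_right h2 _)).eq
  -- the images of the basis
  let Φ : A → Fin 9 × Fin 9 := fun a =>
    ((hspan _ (hn a a.2 z hz)).choose, (hspan _ (hn a a.2 q hq)).choose)
  have hΦ1 : ∀ a : A, (a : G) * z * (a : G)⁻¹ = z ^ cx (Φ a).1 * q ^ cy (Φ a).1 := fun a =>
    (hspan _ (hn a a.2 z hz)).choose_spec
  have hΦ2 : ∀ a : A, (a : G) * q * (a : G)⁻¹ = z ^ cx (Φ a).2 * q ^ cy (Φ a).2 := fun a =>
    (hspan _ (hn a a.2 q hq)).choose_spec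
  have hfib : ∀ a b : A, Φ a = Φ b → (a : G)⁻¹ * b ∈ Q := by
    intro a b e
    have e1 := (hΦ1 a).trans ((congrArg (fun p : Fin 9 × Fin 9 => z ^ cx p.1 * q ^ cy p.1) e).trans (hΦ1 b).symm)
    have e2 := (hΦ2 a).trans ((congrArg (fun p : Fin 9 × Fin 9 => z ^ cx p.2 * q ^ cy p.2) e).trans (hΦ2 b).symm)
    refine hcent _ (mul_mem (inv_mem a.2) b.2) ?_ ?_
    · calc (a : G)⁻¹ * b * z = (a : G)⁻¹ * ((b : G) * z * (b : G)⁻¹) * b := by group
        _ = z * ((a : G)⁻¹ * b) := by rw [← e1]; group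
    · calc (a : G)⁻¹ * b * q = (a : G)⁻¹ * ((b : G) * q * (b : G)⁻¹) * b := by group
        _ = q * ((a : G)⁻¹ * b) := by rw [← e2]; group
  have hind : ∀ a : A, indep (Φ a).1 (Φ a).2 = true := by
    intro a
    rw [indep_iff]
    intro j hj
    apply hspan'
    have hconj : (a : G) * (z ^ cx j * q ^ cy j) * (a : G)⁻¹ = 1 := by
      have hpow : ∀ r ∈ Q, ∀ n, r ^ (n % 3) = r ^ n := fun r hr n => by
        conv_rhs => rw [← Nat.div_add_mod n 3, pow_add, pow_mul, pow_succ, pow_two, h3 r hr, one_pow, one_mul]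
      have h1 : cx (lin (Φ a).1 (Φ a).2 j) =
          (cx j * cx (Φ a).1 + cy j * cx (Φ a).2) % 3 := by
        show (3 * _ + _) / 3 = _; omega
      have h2 : cy (lin (Φ a).1 (Φ a).2 j) =
          (cx j * cy (Φ a).1 + cy j * cy (Φ a).2) % 3 := by
        show (3 * _ + _) % 3 = _; omega
      rw [hj] at h1 h2
      rw [← MulAut.conj_apply, map_mul, map_pow, map_pow, MulAut.conj_apply, MulAut.conj_apply,
        hΦ1, hΦ2, (hcz.pow_pow _ _).mul_pow, (hcz.pow_pow _ _).mul_pow, ← pow_mul, ← pow_mul,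
        ← pow_mul, ← pow_mul, mul_assoc, ← mul_assoc (q ^ _) (z ^ _),
        ((hcz.symm.pow_left _).pow_right _).eq, mul_assoc, ← pow_add, ← mul_assoc, ← pow_add,
        ← hpow z hz, ← hpow q hq (_ + _)]
      rw [mul_comm (cx (Φ a).1), mul_comm (cx (Φ a).2), mul_comm (cy (Φ a).1),
        mul_comm (cy (Φ a).2), ← h1, ← h2]
      simp [cx, cy]
    simpa using conj_eq_one_iff.1 hconj
  have hfull : ∀ p : Fin 9 × Fin 9, indep p.1 p.2 = true → ∃ a : A, Φ a = p := by
    have : Fintype A := Fintype.ofFinite A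
    have : Fintype Q := Fintype.ofFinite Q
    have hle : (Finset.univ : Finset A).card ≤ 9 * (Finset.univ.image Φ).card :=
      Finset.card_le_mul_card_image _ 9 fun p hp => by
        rcases (Finset.mem_image.1 hp) with ⟨a, -, rfl⟩
        refine le_trans ?_ hQ.le
        rw [Nat.card_eq_fintype_card, ← Finset.card_univ (α := Q)]
        refine Finset.card_le_card_of_injOn
          (fun b => if hb : (a : G)⁻¹ * b ∈ Q then (⟨_, hb⟩ : Q) else 1) (fun _ _ => Finset.mem_univ _)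
          fun b hb c hc e => ?_
        simp only [Finset.coe_filter, Finset.mem_univ, true_and] at hb hc
        simp only [dif_pos (hfib a b hb.symm), dif_pos (hfib a c hc.symm), Subtype.mk.injEq,
          mul_left_cancel_iff] at e
        exact Subtype.ext e
    have hsub : Finset.univ.image Φ ⊆ Finset.univ.filter fun p : Fin 9 × Fin 9 => indep p.1 p.2 = true := by
      intro p hp
      obtain ⟨a, -, rfl⟩ := Finset.mem_image.1 hp
      exact Finset.mem_filter.2 ⟨Finset.mem_univ _, hind a⟩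
    have h432 : (Finset.univ : Finset A).card = 432 := by
      rw [Finset.card_univ, ← Nat.card_eq_fintype_card, hA]
    have heq := Finset.eq_of_subset_of_card_le hsub (by rw [indep_count]; omega)
    intro p hp
    have : p ∈ Finset.univ.image Φ := by rw [heq]; simpa using hp
    obtain ⟨a, -, e⟩ := Finset.mem_image.1 this
    exact ⟨a, e⟩
  refine ⟨hspan, hspan', hcent, fun u v huv => ?_⟩
  obtain ⟨b, hb⟩ := hfull (u, v) huv
  have e1 := hΦ1 b
  have e2 := hΦ2 b
  rw [hb] at e1 e2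
  exact ⟨b, b.2, e1, e2⟩

/-- Building a side from counting data. -/
theorem Side.of_card [Finite G] {A Q : Subgroup G} {a₀ z q : G} (hQA : Q ≤ A)
    (hA : Nat.card A = 432) (hQ : Nat.card Q = 9)
    (hn : ∀ a ∈ A, ∀ r ∈ Q, a * r * a⁻¹ ∈ Q)
    (hab : ∀ r ∈ Q, ∀ s ∈ Q, r * s = s * r) (h3 : ∀ r ∈ Q, r * r * r = 1)
    (hself : ∀ a ∈ A, (∀ r ∈ Q, a * r = r * a) → a ∈ Q)
    (hz : z ∈ Q) (hz1 : z ≠ 1) (hq : q ∈ Q) (hq1 : q ∉ Subgroup.zpowers z)
    (ha₀ : a₀ ∈ A) (hinv : ∀ r ∈ Q, a₀ * r * a₀⁻¹ = r⁻¹) (hsq : a₀ * a₀ = 1) :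
    Side A Q a₀ z q := by
  obtain ⟨hspan, hspan', hcent, hfull⟩ :=
    exists_image hQA hA hQ hn hab h3 hself hz hz1 hq hq1
  have zq := hab z hz q hq
  have hno : ∀ a ∈ A, a * a₀ * a⁻¹ * a₀⁻¹ ∈ Q := by
    intro a ha
    have hh : ∀ r ∈ Q, a * a₀ * a⁻¹ * r * (a * a₀ * a⁻¹)⁻¹ = r⁻¹ := by
      intro r hr
      have hr' : a⁻¹ * r * a ∈ Q := by simpa using hn a⁻¹ (inv_mem ha) r hr
      calc _ = a * (a₀ * (a⁻¹ * r * a) * a₀⁻¹) * a⁻¹ := by group
        _ = a * (a⁻¹ * r * a)⁻¹ * a⁻¹ := by rw [hinv _ hr']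
        _ = r⁻¹ := by group
    refine hself _ (mul_mem (mul_mem (mul_mem ha ha₀) (inv_mem ha)) (inv_mem ha₀)) fun r hr => ?_
    have h1 := hinv r hr
    have h2 := hh r⁻¹ (inv_mem hr)
    rw [inv_inv, mul_inv_eq_iff_eq_mul] at h2
    have h1' : a₀⁻¹ * r = r⁻¹ * a₀⁻¹ := by
      rw [show a₀⁻¹ = a₀ from inv_eq_of_mul_eq_one_left hsq] at h1 ⊢
      rw [← h1, mul_assoc _ a₀ a₀, hsq, mul_one]
    rw [mul_assoc, h1', ← mul_assoc, h2]
    group
  have ha₀1 : a₀ ≠ 1 := by
    intro e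
    have h := hinv z hz
    rw [e, one_mul, inv_one, mul_one] at h
    have h3' := h3 z hz
    rw [show z * z = 1 from by nth_rewrite 2 [h]; exact mul_inv_cancel z, one_mul] at h3'
    exact hz1 h3'
  refine ⟨hQA, ha₀, hsq, ha₀1, hz, hq, h3 z hz, h3 q hq, zq, hspan, hspan', hinv, hn, hcent, hno, ?_⟩
  intro u v huv
  obtain ⟨b, hbA, hb1, hb2⟩ := hfull u v huv
  -- correct `b` by a translation so that it commutes with the involution
  set s := b * a₀ * b⁻¹ * a₀⁻¹ with hs
  have hsQ : s ∈ Q := hno b hbA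
  refine ⟨s * b, mul_mem (hQA hsQ) hbA, ?_, ?_, ?_⟩
  · have e1 : b * a₀ = s * a₀ * b := by rw [hs]; group
    have e2 : a₀ * s = s⁻¹ * a₀ := mul_inv_eq_iff_eq_mul.1 (hinv s hsQ)
    have e3 : s * s = s⁻¹ := eq_inv_of_mul_eq_one_left (h3 s hsQ)
    calc s * b * a₀ = s * (b * a₀) := by group
      _ = s * s * a₀ * b := by rw [e1]; group
      _ = a₀ * s * b := by rw [e3, e2]
      _ = a₀ * (s * b) := by group
  · rw [← hb1]
    calc s * b * z * (s * b)⁻¹ = s * (b * z * b⁻¹) * s⁻¹ := by group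
      _ = b * z * b⁻¹ := by rw [hab s hsQ _ (hn b hbA z hz)]; group
  · rw [← hb2]
    calc s * b * q * (s * b)⁻¹ = s * (b * q * b⁻¹) * s⁻¹ := by group
      _ = b * q * b⁻¹ := by rw [hab s hsQ _ (hn b hbA q hq)]; group

end Cfsg.Agent.H37.Amalgam
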